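import Mathlib

/-! # Classes of a central quotient (helper151)

`|Z| k(G/Z)` is at most the sum over `z ∈ Z` of the number of classes `C` of `G` with `zC = C`, and at least `k(G)`; here `Z` is
the centre of `G`.
-/

set_option autoImplicit false

namespace Cfsg.Agent.H151.CenClass

variable {G : Type*} [Group G]

/-- multiplication of a class by a central element -/
def zact (z : Subgroup.center G) : ConjClasses G → ConjClasses G :=
  Quotient.map (fun g => z.1 * g) (by
    intro a b h
    obtain ⟨c, hc⟩ := isConj_iff.1 h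
    refine isConj_iff.2 ⟨c, ?_⟩
    rw [← hc, ← mul_assoc, Subgroup.mem_center_iff.1 z.2 c]
    group)

theorem zact_mk (z : Subgroup.center G) (g : G) : zact z (ConjClasses.mk g) = ConjClasses.mk (z.1 * g) := rfl

/-- the action of the centre on the set of classes -/
@[reducible] def centerAction (G : Type*) [Group G] : MulAction (Subgroup.center G) (ConjClasses G) where
  smul := zact
  one_smul c := by
    obtain ⟨g, rfl⟩ := ConjClasses.mk_surjective c
    change zact 1 (ConjClasses.mk g) = _
    rw [zact_mk, OneMemClass.coe_one, one_mul]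
  mul_smul z w c := by
    obtain ⟨g, rfl⟩ := ConjClasses.mk_surjective c
    change zact (z * w) (ConjClasses.mk g) = zact z (zact w (ConjClasses.mk g))
    rw [zact_mk, zact_mk, zact_mk, Subgroup.coe_mul, mul_assoc]

theorem card_mul_le [Finite G] [Fintype (Subgroup.center G)] :
    Nat.card (Subgroup.center G) * Nat.card (ConjClasses (G ⧸ Subgroup.center G)) ≤
      ∑ z : Subgroup.center G, Nat.card {c : ConjClasses G // zact z c = c} := by
  classical
  let _ := centerAction G
  have := Fintype.ofFinite (ConjClasses G)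
  have := Fintype.ofFinite (MulAction.orbitRel.Quotient (Subgroup.center G) (ConjClasses G))
  have h1 := MulAction.sum_card_fixedBy_eq_card_orbits_mul_card_group (Subgroup.center G) (ConjClasses G)
  have h2 : ∀ z : Subgroup.center G, Nat.card {c : ConjClasses G // zact z c = c} =
      Fintype.card (MulAction.fixedBy (ConjClasses G) z) := by
    intro z
    rw [← Nat.card_eq_fintype_card]
    rfl
  rw [Finset.sum_congr rfl fun z _ => h2 z, h1, mul_comm, Nat.card_eq_fintype_card (α := Subgroup.center G)]
  refine Nat.mul_le_mul_right _ ?_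
  rw [← Nat.card_eq_fintype_card]
  let f : MulAction.orbitRel.Quotient (Subgroup.center G) (ConjClasses G) → ConjClasses (G ⧸ Subgroup.center G) :=
    Quotient.lift (ConjClasses.map (QuotientGroup.mk' (Subgroup.center G))) (by
      intro a b hab
      obtain ⟨z, hz⟩ := hab
      obtain ⟨g, rfl⟩ := ConjClasses.mk_surjective b
      rw [← hz]
      change ConjClasses.map _ (zact z (ConjClasses.mk g)) = _
      rw [zact_mk]
      change ConjClasses.mk (QuotientGroup.mk' _ (z.1 * g)) = ConjClasses.mk (QuotientGroup.mk' _ g)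
      rw [map_mul]
      have : QuotientGroup.mk' (Subgroup.center G) z.1 = 1 := by
        rw [← MonoidHom.mem_ker, QuotientGroup.ker_mk']
        exact z.2
      rw [this, one_mul])
  apply Nat.card_le_card_of_surjective f
  intro c
  obtain ⟨g, rfl⟩ := ConjClasses.mk_surjective c
  obtain ⟨g, rfl⟩ := QuotientGroup.mk_surjective g
  exact ⟨Quotient.mk _ (ConjClasses.mk g), rfl⟩

/-- a representative -/
noncomputable def rep (d : ConjClasses (G ⧸ Subgroup.center G)) : G :=
  Quotient.out (Quotient.out d : G ⧸ Subgroup.center G)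

theorem mk_rep (d : ConjClasses (G ⧸ Subgroup.center G)) :
    ConjClasses.mk (QuotientGroup.mk (rep d) : G ⧸ Subgroup.center G) = d := by
  have h2 : (QuotientGroup.mk (rep d) : G ⧸ Subgroup.center G) = Quotient.out d := Quotient.out_eq _
  rw [h2]
  exact Quotient.out_eq d

theorem card_le_mul [Finite G] :
    Nat.card (ConjClasses G) ≤ Nat.card (Subgroup.center G) * Nat.card (ConjClasses (G ⧸ Subgroup.center G)) := by
  classical
  have key : ∀ c : ConjClasses G, ∃ z : Subgroup.center G,
      c = ConjClasses.mk (z.1 * rep (ConjClasses.map (QuotientGroup.mk' (Subgroup.center G)) c)) := by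
    intro c
    obtain ⟨g, rfl⟩ := ConjClasses.mk_surjective c
    set d := ConjClasses.map (QuotientGroup.mk' (Subgroup.center G)) (ConjClasses.mk g) with hd
    have h1 : ConjClasses.mk (QuotientGroup.mk (rep d) : G ⧸ Subgroup.center G) =
        ConjClasses.mk (QuotientGroup.mk g : G ⧸ Subgroup.center G) := (mk_rep d).trans hd
    rw [ConjClasses.mk_eq_mk_iff_isConj, isConj_iff] at h1
    obtain ⟨x, hx⟩ := h1
    obtain ⟨x, rfl⟩ := QuotientGroup.mk_surjective x
    set h := rep d with hh
    have h3 : (QuotientGroup.mk (x * h * x⁻¹) : G ⧸ Subgroup.center G) = QuotientGroup.mk g := hx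
    rw [QuotientGroup.eq] at h3
    refine ⟨⟨_, h3⟩, ?_⟩
    rw [ConjClasses.mk_eq_mk_iff_isConj]
    refine IsConj.symm (isConj_iff.2 ⟨x, ?_⟩)
    have h4 := Subgroup.mem_center_iff.1 h3
    have h5 : x * ((x * h * x⁻¹)⁻¹ * g * h) * x⁻¹ = ((x * h * x⁻¹)⁻¹ * g) * (x * h * x⁻¹) := by
      have := h4 x
      calc x * ((x * h * x⁻¹)⁻¹ * g * h) * x⁻¹ = (x * ((x * h * x⁻¹)⁻¹ * g)) * h * x⁻¹ := by group
        _ = _ := by rw [this]; group
    rw [h5, ← h4]
    group
  choose z hz using key
  rw [← Nat.card_prod]
  refine Nat.card_le_card_of_injective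
    (fun c => (z c, ConjClasses.map (QuotientGroup.mk' (Subgroup.center G)) c)) ?_
  intro c c' hcc
  rw [Prod.mk.injEq] at hcc
  rw [hz c, hz c', hcc.1, hcc.2]

end Cfsg.Agent.H151.CenClass
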