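import Cfsg.Agent.H151.PSLClass
import Cfsg.Agent.S0280

/-! # Bounds for the number of classes of `PSL_n(q)` (helper151) -/

set_option autoImplicit false

namespace Cfsg.Agent.H151.PSLB

open Polynomial Cfsg.Agent.H151.Cnt Cfsg.Agent.H151.GLC Cfsg.Agent.H151.SLC Cfsg.Agent.H151.SLB Cfsg.Agent.H151.PSLC

universe u

variable {F : Type u} [Field F] {n : ℕ}

/-- the coefficients of a fixed tuple -/
theorem dvd_of_coeff_ne {u : Fˣ} {f : F[X]} (h0 : f.coeff 0 ≠ 0) (h : f.scaleRoots (u : F) = f) {i : ℕ}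
    (hi : f.coeff i ≠ 0) : orderOf u ∣ i := by
  rw [scaleRoots_eq_iff] at h
  have key : ∀ i, f.coeff i ≠ 0 → orderOf u ∣ f.natDegree - i := by
    intro i hi
    have h1 := h i
    rw [orderOf_dvd_iff_pow_eq_one]
    apply Units.ext
    rw [Units.val_pow_eq_pow_val, Units.val_one]
    exact mul_left_cancel₀ hi (h1.trans (mul_one _).symm)
  have h1 := key 0 h0
  have h2 := key i hi
  have h3 : i ≤ f.natDegree := le_natDegree_of_ne_zero hi
  rw [Nat.sub_zero] at h1
  exact (Nat.dvd_sub_iff_right h3 h1).1 h2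

theorem expand_contract_eq {u : Fˣ} (hu : orderOf u ≠ 0) {f : F[X]} (h0 : f.coeff 0 ≠ 0)
    (h : f.scaleRoots (u : F) = f) : expand F (orderOf u) (contract (orderOf u) f) = f := by
  ext i
  rw [coeff_expand (Nat.pos_of_ne_zero hu)]
  split_ifs with hi
  · rw [coeff_contract hu, Nat.div_mul_cancel hi]
  · by_contra hc
    exact hi (dvd_of_coeff_ne h0 h (fun h => hc h.symm))

theorem card_fx_le [Finite F] (u : Fˣ) (d : ℕ) :
    Nat.card {g : X F n n // Fx (u : F) g.1 ∧ ∀ k, g.1 k ≠ 1 → d ∣ k} ≤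
      if orderOf u ∣ n then
        Nat.card {g : X F (n / orderOf u) (n / orderOf u) // ∀ k, g.1 k ≠ 1 → d ∣ k} else 0 := by
  classical
  have hr : 0 < orderOf u := orderOf_pos u
  have hr0 : orderOf u ≠ 0 := hr.ne'
  have hexp : ∀ g : X F n n, Fx (u : F) g.1 → ∀ k, expand F (orderOf u) (contract (orderOf u) (g.1 k)) = g.1 k :=
    fun g hg k => expand_contract_eq hr0 (g.2.1 k).2 (hg k)
  have hdeg : ∀ g : X F n n, Fx (u : F) g.1 → ∀ k, (g.1 k).natDegree =
      (contract (orderOf u) (g.1 k)).natDegree * orderOf u := by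
    intro g hg k
    conv_lhs => rw [← hexp g hg k]
    rw [natDegree_expand]
  have hsum : ∀ g : X F n n, Fx (u : F) g.1 →
      (∑ k ∈ Finset.range (n + 1), k * (contract (orderOf u) (g.1 k)).natDegree) * orderOf u = n := by
    intro g hg
    rw [Finset.sum_mul]
    refine Eq.trans (Finset.sum_congr rfl fun k _ => ?_) g.2.2.2
    rw [hdeg g hg k, mul_assoc]
  split_ifs with hn
  · set m := n / orderOf u with hm
    have hnm : n = m * orderOf u := (Nat.div_mul_cancel hn).symm
    have hmn : m ≤ n := Nat.div_le_self _ _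
    have hsum' : ∀ g : X F n n, Fx (u : F) g.1 →
        ∑ k ∈ Finset.range (n + 1), k * (contract (orderOf u) (g.1 k)).natDegree = m := by
      intro g hg
      apply Nat.eq_of_mul_eq_mul_right hr
      rw [hsum g hg, ← hnm]
    have hmonic : ∀ g : X F n n, Fx (u : F) g.1 → ∀ k, (contract (orderOf u) (g.1 k)).Monic := by
      intro g hg k
      rw [← monic_expand_iff hr, hexp g hg k]
      exact (g.2.1 k).1
    have hone : ∀ g : X F n n, Fx (u : F) g.1 → ∀ k, g.1 k = 1 → contract (orderOf u) (g.1 k) = 1 := by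
      intro g hg k hk
      have h1 := hdeg g hg k
      rw [hk, natDegree_one] at h1
      have h2 : (contract (orderOf u) (g.1 k)).natDegree = 0 := by
        rw [hk]
        exact (Nat.mul_eq_zero.1 h1.symm).resolve_right hr0
      exact (hmonic g hg k).natDegree_eq_zero.1 h2
    have hbig : ∀ g : X F n n, Fx (u : F) g.1 → ∀ k, m < k → contract (orderOf u) (g.1 k) = 1 := by
      intro g hg k hk
      by_cases hkn : k ≤ n
      · have h1 := Finset.single_le_sum (f := fun k => k * (contract (orderOf u) (g.1 k)).natDegree)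
          (fun _ _ => Nat.zero_le _) (Finset.mem_range.2 (Nat.lt_succ_of_le hkn))
        rw [hsum' g hg] at h1
        have h2 : (contract (orderOf u) (g.1 k)).natDegree = 0 := by
          by_contra h
          have h3 : k * 1 ≤ k * (contract (orderOf u) (g.1 k)).natDegree :=
            Nat.mul_le_mul_left k (Nat.one_le_iff_ne_zero.2 h)
          omega
        exact (hmonic g hg k).natDegree_eq_zero.1 h2
      · exact hone g hg k (g.2.2.1 k (Or.inr (by omega)))
    refine Nat.card_le_card_of_injective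
      (fun g => ⟨⟨fun k => contract (orderOf u) (g.1.1 k), ?_, ?_, ?_⟩, ?_⟩) ?_
    · intro k
      refine ⟨hmonic g.1 g.2.1 k, ?_⟩
      rw [coeff_contract hr0, Nat.zero_mul]
      exact (g.1.2.1 k).2
    · rintro k (rfl | hk)
      · exact hone g.1 g.2.1 0 (g.1.2.2.1 0 (Or.inl rfl))
      · exact hbig g.1 g.2.1 k hk
    · refine Eq.trans ?_ (hsum' g.1 g.2.1)
      refine Finset.sum_subset ?_ ?_
      · intro k hk
        rw [Finset.mem_range] at hk ⊢
        omega
      · intro k _ hk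
        rw [Finset.mem_range, not_lt] at hk
        have h1 : (contract (orderOf u) (g.1.1 k)).natDegree = 0 := by
          rw [hbig g.1 g.2.1 k (by omega), natDegree_one]
        change k * (contract (orderOf u) (g.1.1 k)).natDegree = 0
        rw [h1, mul_zero]
    · intro k hk
      apply g.2.2 k
      intro h
      exact hk (hone g.1 g.2.1 k h)
    · intro g g' hgg
      apply Subtype.ext
      apply Subtype.ext
      funext k
      have h1 : contract (orderOf u) (g.1.1 k) = contract (orderOf u) (g'.1.1 k) :=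
        congrFun (Subtype.mk.inj (Subtype.mk.inj hgg)) k
      rw [← hexp g.1 g.2.1 k, ← hexp g'.1 g'.2.1 k, h1]
  · rw [Nat.le_zero, Nat.card_eq_zero]
    left
    refine ⟨fun g => hn ?_⟩
    rw [← hsum g.1 g.2.1]
    exact dvd_mul_left _ _

theorem cf_le [Fintype F] (u : Fˣ) (p : Fˣ × Fˣ) :
    cf F n (u : F) p ≤ if orderOf u * Nat.lcm (orderOf p.1) (orderOf p.2) ∣ n then
      K (Fintype.card F) (n / (orderOf u * Nat.lcm (orderOf p.1) (orderOf p.2)))
        (n / (orderOf u * Nat.lcm (orderOf p.1) (orderOf p.2))) else 0 := by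
  classical
  have hd : 0 < Nat.lcm (orderOf p.1) (orderOf p.2) :=
    Nat.lcm_pos (orderOf_pos p.1) (orderOf_pos p.2)
  have hr : 0 < orderOf u := orderOf_pos u
  have h1 : cf F n (u : F) p = Nat.card {g : X F n n // Fx (u : F) g.1 ∧ ∀ k, g.1 k ≠ 1 →
      Nat.lcm (orderOf p.1) (orderOf p.2) ∣ k} := by
    rw [cf]
    refine Nat.card_congr (Equiv.subtypeEquivRight fun g => ?_)
    refine and_congr_right fun _ => ?_
    refine forall_congr' fun k => ?_
    rw [Nat.lcm_dvd_iff, orderOf_dvd_iff_pow_eq_one, orderOf_dvd_iff_pow_eq_one]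
  rw [h1]
  refine (card_fx_le u _).trans ?_
  by_cases hn : orderOf u ∣ n
  · rw [if_pos hn]
    refine (card_dvd_le hd).trans ?_
    obtain ⟨m, rfl⟩ := hn
    rw [Nat.mul_div_cancel_left m hr, Nat.mul_div_mul_left _ _ hr]
    by_cases h : Nat.lcm (orderOf p.1) (orderOf p.2) ∣ m
    · rw [if_pos h, if_pos (Nat.mul_dvd_mul_left _ h)]
    · rw [if_neg h]; exact Nat.zero_le _
  · rw [if_neg hn]; exact Nat.zero_le _

theorem cf_le_cc [Fintype F] (u : Fˣ) (p : Fˣ × Fˣ) :
    cf F n (u : F) p ≤ if orderOf u ∣ n then cc F (n / orderOf u) p else 0 := by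
  classical
  have h1 : cf F n (u : F) p = Nat.card {g : X F n n // Fx (u : F) g.1 ∧ ∀ k, g.1 k ≠ 1 →
      Nat.lcm (orderOf p.1) (orderOf p.2) ∣ k} := by
    rw [cf]
    refine Nat.card_congr (Equiv.subtypeEquivRight fun g => ?_)
    refine and_congr_right fun _ => ?_
    refine forall_congr' fun k => ?_
    rw [Nat.lcm_dvd_iff, orderOf_dvd_iff_pow_eq_one, orderOf_dvd_iff_pow_eq_one]
  have h2 : ∀ m, cc F m p = Nat.card {g : X F m m // ∀ k, g.1 k ≠ 1 →
      Nat.lcm (orderOf p.1) (orderOf p.2) ∣ k} := by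
    intro m
    rw [cc]
    refine Nat.card_congr (Equiv.subtypeEquivRight fun g => ?_)
    refine forall_congr' fun k => ?_
    rw [Nat.lcm_dvd_iff, orderOf_dvd_iff_pow_eq_one, orderOf_dvd_iff_pow_eq_one]
  rw [h1, h2]
  exact card_fx_le u _

/-- **The sum over the centre.** -/
theorem card_psl_mul_le [Fintype F] [DecidableEq F] (hn : 1 ≤ n) :
    Nat.gcd n (Fintype.card F - 1) * Nat.card (ConjClasses (Matrix.ProjectiveSpecialLinearGroup (Fin n) F)) *
      (Fintype.card F - 1) ≤ ∑ u ∈ aa F n, ∑ p : Fˣ × Fˣ, cc F (n / orderOf u) p := by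
  classical
  have : Nonempty (Fin n) := ⟨⟨0, by omega⟩⟩
  have hU : Nat.card Fˣ = Fintype.card F - 1 := by rw [Nat.card_eq_fintype_card, Fintype.card_units]
  rw [← S0280.card_center_SL hn]
  have := Fintype.ofFinite (Subgroup.center (Matrix.SpecialLinearGroup (Fin n) F))
  have h1 := CenClass.card_mul_le (G := Matrix.SpecialLinearGroup (Fin n) F)
  refine (Nat.mul_le_mul_right _ h1).trans ?_
  have key : ∀ z : Subgroup.center (Matrix.SpecialLinearGroup (Fin n) F), ∃ u : Fˣ, u ^ n = 1 ∧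
      z.1.1 = (u : F) • (1 : Matrix (Fin n) (Fin n) F) := by
    intro z
    obtain ⟨r, hr, hz⟩ := Matrix.SpecialLinearGroup.mem_center_iff.1 z.2
    rw [Fintype.card_fin] at hr
    have hr0 : r ≠ 0 := by
      rintro rfl
      rw [zero_pow (by omega)] at hr
      exact zero_ne_one hr
    refine ⟨Units.mk0 r hr0, Units.ext ?_, ?_⟩
    · rw [Units.val_pow_eq_pow_val, Units.val_mk0, hr, Units.val_one]
    · rw [Units.val_mk0, ← hz, Matrix.scalar_apply, Matrix.smul_one_eq_diagonal]
  choose u hu1 hu2 using key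
  have hinj : Function.Injective u := by
    intro z z' h
    apply Subtype.ext
    apply Subtype.ext
    rw [hu2 z, hu2 z', h]
  rw [Finset.sum_mul]
  calc ∑ z, Nat.card {c : ConjClasses (Matrix.SpecialLinearGroup (Fin n) F) // CenClass.zact z c = c} *
        (Fintype.card F - 1)
      ≤ ∑ z, ∑ p : Fˣ × Fˣ, cc F (n / orderOf (u z)) p := by
        refine Finset.sum_le_sum fun z _ => ?_
        rw [← hU]
        refine (card_fixed_mul_le z (u z).ne_zero (hu2 z)).trans ?_
        refine Finset.sum_le_sum fun p _ => ?_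
        refine (cf_le_cc (u z) p).trans ?_
        rw [if_pos (orderOf_dvd_of_pow_eq_one (hu1 z))]
    _ = ∑ v ∈ Finset.univ.image u, ∑ p : Fˣ × Fˣ, cc F (n / orderOf v) p := by
        rw [Finset.sum_image (fun a _ b _ h => hinj h)]
    _ ≤ _ := by
        refine Finset.sum_le_sum_of_subset ?_
        intro v hv
        obtain ⟨z, -, rfl⟩ := Finset.mem_image.1 hv
        rw [aa, Finset.mem_filter]
        exact ⟨Finset.mem_univ _, hu1 z⟩

/-! ### Bounds for the inner sums -/

theorem cc_eq_zero [Fintype F] [DecidableEq F] {m : ℕ} {p : Fˣ × Fˣ} (hp : p ∉ aa F m ×ˢ aa F m) : cc F m p = 0 := by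
  have h := cc_le (n := m) p
  rw [mem_aa_prod] at hp
  rw [if_neg hp] at h
  omega

theorem cc_le_pow [Fintype F] {m : ℕ} (p : Fˣ × Fˣ) : cc F m p ≤ Fintype.card F ^ m := by
  have h := cc_le (n := m) p
  have hq : 1 ≤ Fintype.card F := Fintype.card_pos
  refine h.trans ?_
  split_ifs
  · exact (K_le _ hq _ _).trans (Nat.pow_le_pow_right hq (Nat.div_le_self _ _))
  · exact Nat.zero_le _

theorem sum_cc_le [Fintype F] [DecidableEq F] (m : ℕ) :
    ∑ p : Fˣ × Fˣ, cc F m p ≤ (aa F m).card ^ 2 * Fintype.card F ^ m := by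
  have h1 : ∑ p : Fˣ × Fˣ, cc F m p = ∑ p ∈ aa F m ×ˢ aa F m, cc F m p := by
    symm
    apply Finset.sum_subset (Finset.subset_univ _)
    intro p _ hp
    exact cc_eq_zero hp
  rw [h1, pow_two, ← Finset.card_product, ← smul_eq_mul, ← Finset.sum_const]
  exact Finset.sum_le_sum fun p _ => cc_le_pow p

theorem sum_cc_one_le [Fintype F] [DecidableEq F] : ∑ p : Fˣ × Fˣ, cc F 1 p ≤ Fintype.card F - 1 := by
  have h1 : ∑ p : Fˣ × Fˣ, cc F 1 p = ∑ p ∈ ({1} : Finset (Fˣ × Fˣ)), cc F 1 p := by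
    symm
    apply Finset.sum_subset (Finset.subset_univ _)
    intro p _ hp
    apply cc_eq_zero
    rw [mem_aa_prod, Nat.dvd_one, SLB.lcm_eq_one_iff]
    rwa [Finset.mem_singleton] at hp
  rw [h1, Finset.sum_singleton]
  exact cc_one_le.trans (K_one_one _).le

theorem sum_cc_add_one_le [Fintype F] [DecidableEq F] (hn : 1 ≤ n) :
    ∑ p : Fˣ × Fˣ, cc F n p + 1 ≤ Fintype.card F ^ n + ((aa F n).card ^ 2 - 1) * Fintype.card F ^ (n / 2) := by
  have hq : 1 ≤ Fintype.card F := Fintype.card_pos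
  have hmem : (1 : Fˣ × Fˣ) ∈ aa F n ×ˢ aa F n := by
    rw [mem_aa_prod, (lcm_eq_one_iff (F := F)).2 rfl]
    exact one_dvd n
  have h1 : ∑ p : Fˣ × Fˣ, cc F n p = ∑ p ∈ aa F n ×ˢ aa F n, cc F n p := by
    symm
    apply Finset.sum_subset (Finset.subset_univ _)
    intro p _ hp
    exact cc_eq_zero hp
  rw [h1, ← Finset.add_sum_erase _ _ hmem]
  have h0 : cc F n 1 + 1 ≤ Fintype.card F ^ n :=
    (Nat.add_le_add_right cc_one_le 1).trans (K_add_one_le _ hq hn)
  have h2 : ∑ p ∈ (aa F n ×ˢ aa F n).erase 1, cc F n p ≤ ∑ p ∈ (aa F n ×ˢ aa F n).erase 1,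
      Fintype.card F ^ (n / 2) := by
    refine Finset.sum_le_sum fun p hp => ?_
    have hp1 := (Finset.mem_erase.1 hp).1
    have h := cc_le (n := n) p
    have hd1 : Nat.lcm (orderOf p.1) (orderOf p.2) ≠ 1 := fun h => hp1 (lcm_eq_one_iff.1 h)
    have hd0 : 0 < Nat.lcm (orderOf p.1) (orderOf p.2) := Nat.lcm_pos (orderOf_pos p.1) (orderOf_pos p.2)
    refine h.trans ?_
    split_ifs with hd
    · refine (K_le _ hq _ _).trans (Nat.pow_le_pow_right hq ?_)
      exact Nat.div_le_div_left (by omega) (by norm_num)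
    · exact Nat.zero_le _
  rw [Finset.sum_const, smul_eq_mul, Finset.card_erase_of_mem hmem, Finset.card_product, ← pow_two] at h2
  omega

/-! ### The total -/

theorem one_mem_aa [Fintype F] [DecidableEq F] (m : ℕ) : (1 : Fˣ) ∈ aa F m := by
  rw [aa, Finset.mem_filter]; exact ⟨Finset.mem_univ _, one_pow _⟩

theorem orderOf_dvd_of_mem_aa [Fintype F] [DecidableEq F] {m : ℕ} {u : Fˣ} (hu : u ∈ aa F m) : orderOf u ∣ m := by
  rw [aa, Finset.mem_filter] at hu
  exact orderOf_dvd_of_pow_eq_one hu.2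

theorem total_prime_le [Fintype F] [DecidableEq F] (hn : n.Prime) :
    ∑ u ∈ aa F n, ∑ p : Fˣ × Fˣ, cc F (n / orderOf u) p ≤ K (Fintype.card F) n n +
      (((aa F n).card ^ 2 - 1) + ((aa F n).card - 1)) * (Fintype.card F - 1) := by
  rw [← Finset.add_sum_erase _ _ (one_mem_aa n), orderOf_one, Nat.div_one, Nat.add_mul, ← add_assoc]
  refine Nat.add_le_add (sum_prime_le hn) ?_
  refine (Finset.sum_le_sum (g := fun _ => Fintype.card F - 1) fun u hu => ?_).trans ?_
  · have h1 := orderOf_dvd_of_mem_aa (Finset.mem_of_mem_erase hu)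
    have h2 : orderOf u ≠ 1 := fun h => (Finset.mem_erase.1 hu).1 (orderOf_eq_one_iff.1 h)
    rw [((Nat.dvd_prime hn).1 h1).resolve_left h2, Nat.div_self hn.pos]
    exact sum_cc_one_le
  · rw [Finset.sum_const, smul_eq_mul, Finset.card_erase_of_mem (one_mem_aa n)]

theorem total_four_le [Fintype F] [DecidableEq F] :
    ∑ u ∈ aa F 4, ∑ p : Fˣ × Fˣ, cc F (4 / orderOf u) p ≤ K (Fintype.card F) 4 4 +
      ((aa F 2).card ^ 2 - 1) * (Fintype.card F ^ 2 - 1) + ((aa F 4).card ^ 2 - (aa F 2).card ^ 2) * (Fintype.card F - 1) +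
      ((aa F 2).card - 1) * ((Fintype.card F ^ 2 - 1) + ((aa F 2).card ^ 2 - 1) * (Fintype.card F - 1)) +
      ((aa F 4).card - (aa F 2).card) * (Fintype.card F - 1) := by
  have hq : 1 ≤ Fintype.card F := Fintype.card_pos
  have h24 : aa F 2 ⊆ aa F 4 := aa_mono (by norm_num)
  rw [← Finset.sum_sdiff h24, ← Finset.add_sum_erase (aa F 2) _ (one_mem_aa 2), orderOf_one, Nat.div_one, add_comm]
  refine Nat.add_le_add (Nat.add_le_add sum_four_le ?_) ?_
  · refine (Finset.sum_le_sum (g := fun _ => (Fintype.card F ^ 2 - 1) + ((aa F 2).card ^ 2 - 1) * (Fintype.card F - 1))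
      fun u hu => ?_).trans ?_
    · have h1 := orderOf_dvd_of_mem_aa (Finset.mem_of_mem_erase hu)
      have h2 : orderOf u ≠ 1 := fun h => (Finset.mem_erase.1 hu).1 (orderOf_eq_one_iff.1 h)
      rw [((Nat.dvd_prime Nat.prime_two).1 h1).resolve_left h2]
      have := sum_prime_le (F := F) Nat.prime_two
      rw [K_two_two _ hq] at this
      exact this
    · rw [Finset.sum_const, smul_eq_mul, Finset.card_erase_of_mem (one_mem_aa 2)]
  · refine (Finset.sum_le_sum (g := fun _ => Fintype.card F - 1) fun u hu => ?_).trans ?_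
    · rw [Finset.mem_sdiff] at hu
      have h1 := orderOf_dvd_of_mem_aa hu.1
      have h2 : ¬ orderOf u ∣ 2 := by
        intro h
        apply hu.2
        rw [aa, Finset.mem_filter]
        exact ⟨Finset.mem_univ _, orderOf_dvd_iff_pow_eq_one.1 h⟩
      have h3 : orderOf u = 4 := by
        have hle := Nat.le_of_dvd (by norm_num) h1
        interval_cases hl : orderOf u
        · simp at h1
        · norm_num at h2
        · norm_num at h2
        · norm_num at h1
        · rfl
      rw [h3]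
      exact sum_cc_one_le
    · rw [Finset.sum_const, smul_eq_mul, Finset.card_sdiff_of_subset h24]

theorem total_large_le [Fintype F] [DecidableEq F] (hn : 2 ≤ n) :
    ∑ u ∈ aa F n, ∑ p : Fˣ × Fˣ, cc F (n / orderOf u) p + 1 ≤ Fintype.card F ^ n +
      (((aa F n).card ^ 2 - 1) + ((aa F n).card - 1) * (min (n / 2) (Fintype.card F - 1)) ^ 2) *
        Fintype.card F ^ (n / 2) := by
  have hq : 1 ≤ Fintype.card F := Fintype.card_pos
  rw [← Finset.add_sum_erase _ _ (one_mem_aa n), orderOf_one, Nat.div_one]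
  have h1 := sum_cc_add_one_le (F := F) (n := n) (by omega)
  have h2 : ∑ u ∈ (aa F n).erase 1, ∑ p : Fˣ × Fˣ, cc F (n / orderOf u) p ≤
      ((aa F n).card - 1) * ((min (n / 2) (Fintype.card F - 1)) ^ 2 * Fintype.card F ^ (n / 2)) := by
    rw [← Finset.card_erase_of_mem (one_mem_aa (F := F) n), ← smul_eq_mul, ← Finset.sum_const]
    refine Finset.sum_le_sum fun u hu => ?_
    have h3 := orderOf_dvd_of_mem_aa (Finset.mem_of_mem_erase hu)
    have h4 : orderOf u ≠ 1 := fun h => (Finset.mem_erase.1 hu).1 (orderOf_eq_one_iff.1 h)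
    have h5 : 0 < orderOf u := orderOf_pos u
    have h6 : n / orderOf u ≤ n / 2 := Nat.div_le_div_left (by omega) (by norm_num)
    have h7 : 0 < n / orderOf u := Nat.div_pos (Nat.le_of_dvd (by omega) h3) h5
    refine (sum_cc_le _).trans ?_
    refine Nat.mul_le_mul (Nat.pow_le_pow_left (le_min ((card_aa_le h7).trans h6) (card_aa_le' _)) 2)
      (Nat.pow_le_pow_right hq h6)
  rw [Nat.add_mul, mul_assoc]
  omega

end Cfsg.Agent.H151.PSLB
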