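import Mathlib
import Cfsg.Agent.H383.Cube.Basic
import Cfsg.Agent.S0243
import Cfsg.Agent.S2478
import Cfsg.Agent.S2479
import Cfsg.Agent.S2480

/-!
# `CubeBound (PSL_n(q))` for `n ≥ 3` (helper151, for S5721/S5718 of helper383)

`cube_psl`: by the class number bounds S2478, S2479, S2480.
-/

set_option autoImplicit false

namespace Cfsg.Agent.H151.CubePSL

open Cfsg.Agent.H383.Cube

/-- `∏_{i<n} (q^n - q^i)` -/
def P (n q : ℕ) : ℕ := ∏ i ∈ Finset.range n, (q ^ n - q ^ i)

theorem P_succ (n q : ℕ) : P (n + 1) q = (q ^ (n + 1) - 1) * (q ^ n * P n q) := by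
  unfold P
  rw [Finset.prod_range_succ', pow_zero, mul_comm]
  congr 1
  have h : ∀ i ∈ Finset.range n, q ^ (n + 1) - q ^ (i + 1) = q * (q ^ n - q ^ i) := by
    intro i _
    rw [Nat.mul_sub, pow_succ', pow_succ']
  rw [Finset.prod_congr rfl h, Finset.prod_mul_distrib, Finset.prod_const, Finset.card_range]

theorem step {n q : ℕ} (hn : 3 ≤ n) (hq : 2 ≤ q) (h : (q - 1) * (q ^ (n - 1) + 5 * q ^ (n - 2)) ^ 3 < P n q) :
    (q - 1) * (q ^ (n + 1 - 1) + 5 * q ^ (n + 1 - 2)) ^ 3 < P (n + 1) q := by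
  rw [P_succ]
  have e1 : q ^ (n + 1 - 1) + 5 * q ^ (n + 1 - 2) = q * (q ^ (n - 1) + 5 * q ^ (n - 2)) := by
    have a1 : n + 1 - 1 = (n - 1) + 1 := by omega
    have a2 : n + 1 - 2 = (n - 2) + 1 := by omega
    rw [a1, a2, pow_succ, pow_succ]
    ring
  rw [e1]
  have h3 : q ^ 3 ≤ q ^ n := Nat.pow_le_pow_right (by omega) hn
  have h4 : 1 ≤ q ^ (n + 1) - 1 := by
    have : 2 ^ 1 ≤ q ^ (n + 1) := (Nat.pow_le_pow_right (by norm_num) (by omega)).trans (Nat.pow_le_pow_left hq (n + 1))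
    omega
  calc (q - 1) * (q * (q ^ (n - 1) + 5 * q ^ (n - 2))) ^ 3
      = q ^ 3 * ((q - 1) * (q ^ (n - 1) + 5 * q ^ (n - 2)) ^ 3) := by ring
    _ < q ^ 3 * P n q := Nat.mul_lt_mul_of_pos_left h (by positivity)
    _ ≤ q ^ n * P n q := Nat.mul_le_mul_right _ h3
    _ ≤ (q ^ (n + 1) - 1) * (q ^ n * P n q) := Nat.le_mul_of_pos_left _ h4

theorem base_three {q : ℕ} (hq : 4 ≤ q) : (q - 1) * (q ^ (3 - 1) + 5 * q ^ (3 - 2)) ^ 3 < P 3 q := by
  obtain ⟨t, rfl⟩ : ∃ t, q = t + 4 := ⟨q - 4, by omega⟩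
  have e0 : t + 4 - 1 = t + 3 := by omega
  have e1 : (t + 4) ^ 3 - 1 = (t + 3) * ((t + 4) ^ 2 + (t + 4) + 1) := by
    apply Nat.sub_eq_of_eq_add; ring
  have e2 : (t + 4) ^ 3 - (t + 4) = (t + 4) * ((t + 3) * (t + 5)) := by
    apply Nat.sub_eq_of_eq_add; ring
  have e3 : (t + 4) ^ 3 - (t + 4) ^ 2 = (t + 4) ^ 2 * (t + 3) := by
    apply Nat.sub_eq_of_eq_add; ring
  have hP : P 3 (t + 4) = (t + 3) * ((t + 4) ^ 2 + (t + 4) + 1) * ((t + 4) * ((t + 3) * (t + 5))) * ((t + 4) ^ 2 * (t + 3)) := by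
    unfold P
    rw [Finset.prod_range_succ, Finset.prod_range_succ, Finset.prod_range_succ, Finset.prod_range_zero, one_mul,
      pow_zero, pow_one, e1, e2, e3]
  rw [hP, e0]
  have h : (t + 9) ^ 3 < (t + 3) ^ 2 * (t + 5) * ((t + 4) ^ 2 + (t + 4) + 1) := by
    ring_nf
    nlinarith [Nat.zero_le (t ^ 5), Nat.zero_le (t ^ 4), Nat.zero_le (t ^ 3), Nat.zero_le (t ^ 2), Nat.zero_le t]
  calc (t + 3) * ((t + 4) ^ (3 - 1) + 5 * (t + 4) ^ (3 - 2)) ^ 3 = ((t + 3) * (t + 4) ^ 3) * (t + 9) ^ 3 := by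
        norm_num
        ring
    _ < ((t + 3) * (t + 4) ^ 3) * ((t + 3) ^ 2 * (t + 5) * ((t + 4) ^ 2 + (t + 4) + 1)) :=
        Nat.mul_lt_mul_of_pos_left h (by positivity)
    _ = _ := by ring

theorem num_lt {n q : ℕ} (hn : 3 ≤ n) (hq : 2 ≤ q) (h2 : ¬ (n = 3 ∧ q ≤ 3)) (h4 : ¬ (n = 4 ∧ q = 2)) :
    (q - 1) * (q ^ (n - 1) + 5 * q ^ (n - 2)) ^ 3 < P n q := by
  rcases Nat.lt_or_ge q 4 with hq4 | hq4
  · rcases Nat.lt_or_ge q 3 with hq3 | hq3
    · obtain rfl : q = 2 := by omega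
      have hn5 : 5 ≤ n := by omega
      induction n, hn5 using Nat.le_induction with
      | base => decide
      | succ m hm ih => exact step (by omega) (by omega) (ih (by omega) (by omega) (by omega))
    · obtain rfl : q = 3 := by omega
      have hn4 : 4 ≤ n := by omega
      induction n, hn4 using Nat.le_induction with
      | base => decide
      | succ m hm ih => exact step (by omega) (by omega) (ih (by omega) (by omega) (by omega))
  · induction n, hn using Nat.le_induction with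
    | base => exact base_three hq4
    | succ m hm ih => exact step (by omega) (by omega) (ih (by omega) (by omega))

variable {F : Type*} [Field F]

theorem card_le_sl [Finite F] (n : ℕ) : Nat.card (ConjClasses (Matrix.ProjectiveSpecialLinearGroup (Fin n) F)) ≤
    Nat.card (ConjClasses (Matrix.SpecialLinearGroup (Fin n) F)) := by
  apply Nat.card_le_card_of_surjective (ConjClasses.map
    (QuotientGroup.mk' (Subgroup.center (Matrix.SpecialLinearGroup (Fin n) F))))
  exact ConjClasses.map_surjective (QuotientGroup.mk'_surjective _)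

/-- `GL₃(3) = {±1} × SL₃(3)` -/
theorem two_mul_card_sl [Fintype F] (h3 : Fintype.card F = 3) :
    2 * Nat.card (ConjClasses (Matrix.SpecialLinearGroup (Fin 3) F)) ≤
      Nat.card (ConjClasses (Matrix.GeneralLinearGroup (Fin 3) F)) := by
  classical
  have hF : ∀ u : Fˣ, u ^ 2 = 1 := by
    intro u
    have h := pow_card_eq_one' (x := u)
    rw [Nat.card_units, Nat.card_eq_fintype_card, h3] at h
    exact h
  have hF3 : ∀ u : Fˣ, u ^ 3 = u := fun u => by rw [pow_succ, hF u, one_mul]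
  have hcu : Nat.card Fˣ = 2 := by rw [Nat.card_units, Nat.card_eq_fintype_card, h3]
  let G := Matrix.GeneralLinearGroup (Fin 3) F
  let ι : Matrix.SpecialLinearGroup (Fin 3) F →* G := Matrix.SpecialLinearGroup.toGL
  let sc : Fˣ →* G := Units.map (Matrix.scalar (Fin 3)).toMonoidHom
  have hsc : ∀ u (g : G), Commute (sc u) g := by
    intro u g
    apply Units.ext
    exact (Matrix.scalar_commute (u : F) (fun r => mul_comm _ _) (g : Matrix (Fin 3) (Fin 3) F)).eq
  have hdsc : ∀ u, Matrix.GeneralLinearGroup.det (sc u) = u := by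
    intro u
    apply Units.ext
    change Matrix.det (Matrix.scalar (Fin 3) (u : F)) = _
    rw [Matrix.scalar_apply, Matrix.det_diagonal, Finset.prod_const, Finset.card_univ, Fintype.card_fin, ← Units.val_pow_eq_pow_val,
      hF3]
  have hdι : ∀ A, Matrix.GeneralLinearGroup.det (ι A) = 1 := by
    intro A
    apply Units.ext
    exact A.2
  have hιinj : Function.Injective ι := by
    intro A B h
    apply Subtype.ext
    exact congrArg (fun g : G => (g : Matrix (Fin 3) (Fin 3) F)) h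
  have hmem : ∀ g : G, Matrix.GeneralLinearGroup.det g = 1 → ∃ A, ι A = g := by
    intro g hg
    have h1 : Matrix.det (g : Matrix (Fin 3) (Fin 3) F) = 1 := congrArg Units.val hg
    exact ⟨⟨g, h1⟩, Units.ext rfl⟩
  rw [← hcu, ← Nat.card_prod]
  refine Nat.card_le_card_of_injective
    (fun p : Fˣ × ConjClasses (Matrix.SpecialLinearGroup (Fin 3) F) =>
      Quotient.liftOn p.2 (fun A => ConjClasses.mk (sc p.1 * ι A)) ?_) ?_
  · intro A B hAB
    obtain ⟨c, hc⟩ := isConj_iff.1 (show IsConj A B from hAB)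
    apply ConjClasses.mk_eq_mk_iff_isConj.2
    rw [isConj_iff]
    refine ⟨ι c, ?_⟩
    rw [← hc, map_mul, map_mul, map_inv, ← mul_assoc, ← (hsc p.1 (ι c)).eq]
    group
  · rintro ⟨u, x⟩ ⟨v, y⟩ h
    obtain ⟨A, rfl⟩ := ConjClasses.exists_rep x
    obtain ⟨B, rfl⟩ := ConjClasses.exists_rep y
    have h1 : IsConj (sc u * ι A) (sc v * ι B) := ConjClasses.mk_eq_mk_iff_isConj.1 h
    obtain ⟨c, hc⟩ := isConj_iff.1 h1
    have h2 := congrArg Matrix.GeneralLinearGroup.det hc
    rw [map_mul, map_mul, map_inv, mul_right_comm, mul_inv_cancel, one_mul, map_mul, map_mul, hdsc, hdsc, hdι, hdι,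
      mul_one, mul_one] at h2
    subst h2
    have h3' : c * ι A * c⁻¹ = ι B := by
      have h5 : sc u * (c * ι A * c⁻¹) = sc u * ι B := by
        rw [← hc, ← mul_assoc, ← mul_assoc, ← mul_assoc, (hsc u c).eq]
      exact mul_left_cancel h5
    obtain ⟨C, hC⟩ := hmem (sc (Matrix.GeneralLinearGroup.det c) * c) (by
      rw [map_mul, hdsc, ← sq, hF])
    have h6 : C * A * C⁻¹ = B := by
      apply hιinj
      rw [map_mul, map_mul, map_inv, hC, ← h3']
      rw [mul_inv_rev]
      have h7 := hsc (Matrix.GeneralLinearGroup.det c) (c * ι A * c⁻¹)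
      calc sc (Matrix.GeneralLinearGroup.det c) * c * ι A * (c⁻¹ * (sc (Matrix.GeneralLinearGroup.det c))⁻¹)
          = sc (Matrix.GeneralLinearGroup.det c) * (c * ι A * c⁻¹) * (sc (Matrix.GeneralLinearGroup.det c))⁻¹ := by group
        _ = c * ι A * c⁻¹ := by rw [h7.eq, mul_inv_cancel_right]
    have h8 : IsConj A B := isConj_iff.2 ⟨C, h6⟩
    rw [Prod.mk.injEq]
    exact ⟨rfl, ConjClasses.mk_eq_mk_iff_isConj.2 h8⟩

theorem card_psl [Fintype F] {n : ℕ} (hn : 2 ≤ n) :
    Nat.gcd n (Fintype.card F - 1) * (Fintype.card F - 1) * Nat.card (Matrix.ProjectiveSpecialLinearGroup (Fin n) F) =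
      P n (Fintype.card F) := by
  have h := S0243.result (F := F) rfl n hn
  rw [Fin.prod_univ_eq_prod_range (fun i => Fintype.card F ^ n - Fintype.card F ^ i) n] at h
  rw [mul_assoc]
  exact h

/-- the cube bound for `PSL_n(q)`, `n ≥ 3` -/
theorem cube_psl {F : Type*} [Field F] [Finite F] (n : ℕ) (hn : 3 ≤ n) (h2 : ¬ (n = 3 ∧ Nat.card F = 2)) :
    CubeBound (Matrix.ProjectiveSpecialLinearGroup (Fin n) F) := by
  classical
  have := Fintype.ofFinite F
  rw [Nat.card_eq_fintype_card] at h2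
  have hq : 2 ≤ Fintype.card F := Fintype.one_lt_card
  by_cases h33 : n = 3 ∧ Fintype.card F = 3
  · obtain ⟨rfl, h3⟩ := h33
    have h5 := card_psl (F := F) (n := 3) (by norm_num)
    rw [h3] at h5
    have h6 : P 3 3 = 11232 := by decide
    rw [h6] at h5
    have h7 := (S2478.result (F := F) 3 (by norm_num)).2
    rw [h3] at h7
    have h8 := two_mul_card_sl h3
    have h9 := card_le_sl (F := F) 3
    refine CubeBound.of_card_conjClasses (k := 13) (by omega) ?_
    have : Nat.gcd 3 (3 - 1) = 1 := by decide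
    rw [this] at h5
    omega
  by_cases h42 : n = 4 ∧ Fintype.card F = 2
  · obtain ⟨rfl, h3⟩ := h42
    have h5 := card_psl (F := F) (n := 4) (by norm_num)
    rw [h3] at h5
    have h6 : P 4 2 = 20160 := by decide
    rw [h6] at h5
    have h7 := (S2479.result (F := F) 4 (by norm_num)).2.2 (by norm_num)
    rw [h3] at h7
    have h9 := card_le_sl (F := F) 4
    refine CubeBound.of_card_conjClasses (k := 20) (by omega) ?_
    have : Nat.gcd 4 (2 - 1) = 1 := by decide
    rw [this] at h5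
    omega
  have h5 := card_psl (F := F) (n := n) (by omega)
  have h6 := (S2480.result (F := F) n (by omega)).2
  have h7 := num_lt hn hq (by omega) h42
  rw [← h5] at h7
  refine CubeBound.of_card_conjClasses le_rfl ?_
  set d := Nat.gcd n (Fintype.card F - 1)
  set k := Nat.card (ConjClasses (Matrix.ProjectiveSpecialLinearGroup (Fin n) F))
  set N := Nat.card (Matrix.ProjectiveSpecialLinearGroup (Fin n) F)
  set X := Fintype.card F ^ (n - 1) + 5 * Fintype.card F ^ (n - 2)
  have hd : 0 < d := Nat.gcd_pos_of_pos_left _ (by omega)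
  have hr : 0 < Fintype.card F - 1 := by omega
  have h8 : X ^ 3 < d * N := by
    apply Nat.lt_of_mul_lt_mul_left (a := Fintype.card F - 1)
    calc (Fintype.card F - 1) * X ^ 3 < d * (Fintype.card F - 1) * N := h7
      _ = (Fintype.card F - 1) * (d * N) := by ring
  have h9 : d ^ 3 * k ^ 3 < d ^ 3 * N := by
    calc d ^ 3 * k ^ 3 = (d * k) ^ 3 := by ring
      _ ≤ X ^ 3 := Nat.pow_le_pow_left h6 3
      _ < d * N := h8
      _ ≤ d ^ 3 * N := by
        apply Nat.mul_le_mul_right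
        calc d = d ^ 1 := (pow_one d).symm
          _ ≤ d ^ 3 := Nat.pow_le_pow_right hd (by norm_num)
  exact Nat.lt_of_mul_lt_mul_left h9

end Cfsg.Agent.H151.CubePSL
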