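import Mathlib
import Cfsg.Agent.H151.CubePSL
import Cfsg.Agent.S2331
import Cfsg.Agent.S0255

/-!
# `CubeBound (PSL_2(q))`, `CubeBound (PSL_3(2))` (helper151, for S5721/S5718 of helper383)

* `of_class` : `k(T) (m-1)² < |T| < m³` implies `CubeBound T` (`|T| ≤ |C|² k(T)`);
* `cube_psl_two`, `cube_psl_all` : `PSL_n(q)`, all `n ≥ 2`, `(n,q) ≠ (2,2), (2,3)`.
-/

set_option autoImplicit false

namespace Cfsg.Agent.H151.CubeTwo

open Cfsg.Agent.H383.Cube

/-- `|T| ≤ |C_T(α)|² k(T)` -/
theorem card_le_sq_mul {T : Type*} [Group T] [Finite T] {α : MulAut T} (hα : α * α = 1) :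
    Nat.card T ≤ Nat.card {t : T // α t = t} ^ 2 * Nat.card (ConjClasses T) := by
  have h1 := card_le hα
  have h2 := tw_sq_le α
  set c := Nat.card {t : T // α t = t}
  set i := Nat.card (Tw α)
  set N := Nat.card T
  set k := Nat.card (ConjClasses T)
  have hN : 0 < N := Nat.card_pos
  have h3 : N * N ≤ (c ^ 2 * k) * N := by
    calc N * N = N ^ 2 := by ring
      _ ≤ (c * i) ^ 2 := Nat.pow_le_pow_left h1 2
      _ = c ^ 2 * i ^ 2 := by ring
      _ ≤ c ^ 2 * (k * N) := Nat.mul_le_mul_left _ h2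
      _ = (c ^ 2 * k) * N := by ring
  exact Nat.le_of_mul_le_mul_right h3 hN

/-- the criterion `k(T) (m-1)² < |T| < m³` -/
theorem of_class {T : Type*} [Group T] [Finite T] {k m : ℕ} (hk : Nat.card (ConjClasses T) ≤ k)
    (h1 : k * (m - 1) ^ 2 < Nat.card T) (h2 : Nat.card T < m ^ 3) : CubeBound T := by
  intro α hα
  have h3 := card_le_sq_mul (mul_self_of_order hα)
  have hm : m ≤ Nat.card {t : T // α t = t} := by
    by_contra hcon
    have h4 : Nat.card {t : T // α t = t} ≤ m - 1 := by omega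
    have h5 : Nat.card T ≤ (m - 1) ^ 2 * k :=
      h3.trans (Nat.mul_le_mul (Nat.pow_le_pow_left h4 2) hk)
    rw [mul_comm] at h5
    omega
  exact h2.trans_le (Nat.pow_le_pow_left hm 3)

theorem card_psl_two {F : Type*} [Field F] [Fintype F] :
    Nat.gcd 2 (Fintype.card F - 1) * Nat.card (Matrix.ProjectiveSpecialLinearGroup (Fin 2) F) =
      Fintype.card F * (Fintype.card F ^ 2 - 1) := by
  have hq : 2 ≤ Fintype.card F := Fintype.one_lt_card
  have h := CubePSL.card_psl (F := F) (n := 2) le_rfl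
  unfold CubePSL.P at h
  rw [Finset.prod_range_succ, Finset.prod_range_succ, Finset.prod_range_zero, one_mul, pow_zero, pow_one] at h
  have e : Fintype.card F ^ 2 - Fintype.card F = Fintype.card F * (Fintype.card F - 1) := by
    rw [Nat.mul_sub, mul_one, sq]
  rw [e] at h
  apply Nat.eq_of_mul_eq_mul_left (show 0 < Fintype.card F - 1 by omega)
  calc _ = _ := by rw [← mul_assoc, mul_comm (Fintype.card F - 1)]
    _ = _ := h
    _ = _ := by ring

theorem num_odd {q k N : ℕ} (h9 : 9 ≤ q) (hc : 2 * N = q * (q ^ 2 - 1)) (hk : 2 * k ≤ q + 5) : k ^ 3 < N := by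
  obtain ⟨t, rfl⟩ : ∃ t, q = t + 9 := ⟨q - 9, by omega⟩
  have e1 : (t + 9) ^ 2 - 1 = (t + 8) * (t + 10) := by apply Nat.sub_eq_of_eq_add; ring
  rw [e1] at hc
  have h0 : (t + 9 + 5) ^ 3 < 4 * ((t + 9) * ((t + 8) * (t + 10))) := by
    ring_nf
    nlinarith [Nat.zero_le (t ^ 3), Nat.zero_le (t ^ 2)]
  have h1 : (2 * k) ^ 3 < 4 * (2 * N) := by
    rw [hc]
    exact (Nat.pow_le_pow_left hk 3).trans_lt h0
  have h2 : 8 * k ^ 3 < 8 * N := by
    calc 8 * k ^ 3 = (2 * k) ^ 3 := by ring
      _ < 4 * (2 * N) := h1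
      _ = 8 * N := by ring
  omega

/-- the cube bound for `PSL_2(q)` -/
theorem cube_psl_two {F : Type*} [Field F] [Finite F] (hF : 4 ≤ Nat.card F) :
    CubeBound (Matrix.ProjectiveSpecialLinearGroup (Fin 2) F) := by
  classical
  have := Fintype.ofFinite F
  rw [Nat.card_eq_fintype_card] at hF
  have hc := card_psl_two (F := F)
  rcases Nat.even_or_odd (Fintype.card F) with he | ho
  · have hch : CharP F 2 := by
      obtain ⟨p, hp⟩ := CharP.exists F
      have hpp : p.Prime := CharP.char_is_prime F p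
      have h1 : p ∣ Fintype.card F := (CharP.cast_eq_zero_iff F p _).1 (Nat.cast_card_eq_zero F)
      have := Fact.mk hpp
      obtain ⟨n, hp', hn⟩ := FiniteField.card F p
      rw [hn] at he
      have h2 : 2 ∣ p := (Nat.prime_two.dvd_of_dvd_pow he.two_dvd)
      rwa [← (Nat.prime_dvd_prime_iff_eq Nat.prime_two hpp).1 h2] at hp
    have hk := S2331.result (F := F)
    have hk' := CubePSL.card_le_sl (F := F) 2
    have hd : Nat.gcd 2 (Fintype.card F - 1) = 1 := by
      rw [← Nat.coprime_iff_gcd_eq_one, Nat.coprime_two_left]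
      exact Nat.Even.sub_odd (by omega) he odd_one
    rw [hd, one_mul] at hc
    obtain ⟨t, ht⟩ : ∃ t, Fintype.card F = t + 1 := ⟨Fintype.card F - 1, by omega⟩
    have e1 : (t + 1) ^ 2 - 1 = t * (t + 2) := by apply Nat.sub_eq_of_eq_add; ring
    rw [ht, e1] at hc
    rw [ht] at hk hF
    refine of_class (k := t + 2) (m := t + 1) (by omega) ?_ ?_
    · rw [hc, Nat.add_sub_cancel]
      have : 0 < t * (t + 2) := by have : 0 < t := by omega
                                   positivity
      nlinarith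
    · rw [hc]
      nlinarith
  · have hd : Nat.gcd 2 (Fintype.card F - 1) = 2 := by
      apply Nat.gcd_eq_left
      exact (Nat.Odd.sub_odd ho odd_one).two_dvd
    have hk := (S2480.result (F := F) 2 le_rfl).2
    rw [hd, show 2 - 1 = 1 from rfl, show 2 - 2 = 0 from rfl, pow_one, pow_zero, mul_one] at hk
    rw [hd] at hc
    rcases Nat.lt_or_ge (Fintype.card F) 9 with h9 | h9
    · have h57 : Fintype.card F = 5 ∨ Fintype.card F = 7 := by
        obtain ⟨m, hm⟩ := ho
        omega
      rcases h57 with h | h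
      · rw [h] at hc hk
        exact of_class (k := 5) (m := 4) (by omega) (by omega) (by omega)
      · rw [h] at hc hk
        exact of_class (k := 6) (m := 6) (by omega) (by omega) (by omega)
    · exact CubeBound.of_card_conjClasses le_rfl (num_odd h9 hc hk)

/-- all simple `PSL_n(q)` -/
theorem cube_psl_all {F : Type*} [Field F] [Finite F] (n : ℕ) (hn : 2 ≤ n) (h2 : n = 2 → 4 ≤ Nat.card F) :
    CubeBound (Matrix.ProjectiveSpecialLinearGroup (Fin n) F) := by
  rcases Nat.lt_or_ge n 3 with h | h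
  · obtain rfl : n = 2 := by omega
    exact cube_psl_two (h2 rfl)
  by_cases h32 : n = 3 ∧ Nat.card F = 2
  · obtain ⟨rfl, hF⟩ := h32
    have := Fintype.ofFinite F
    rw [Nat.card_eq_fintype_card] at hF
    have : Fact (Nat.Prime 7) := ⟨by norm_num⟩
    obtain ⟨e⟩ := S0255.result (F := ZMod 7) (K := F) (ZMod.card 7) hF
    exact CubeBound.congr e (cube_psl_two (by rw [Nat.card_zmod]; norm_num))
  · exact CubePSL.cube_psl n h h32

end Cfsg.Agent.H151.CubeTwo
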