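import Mathlib
import Cfsg.Agent.H152.Tuple

/-! # The tuple `hp` of a scalar multiple (helper151)

`hp_smul : hp (a • T) j = (hp T j).scaleRoots a` for `a ≠ 0`; `hp_similar`: similar endomorphisms have the same tuple.
-/

set_option autoImplicit false

namespace Cfsg.Agent.H151.ScaleHp

open Polynomial Cfsg.Agent.H152

universe u

variable {F : Type u} [Field F]

/-- substitution of `aX` for `X` -/
noncomputable def sub (a : F) (ha : a ≠ 0) : F[X] ≃ₐ[F] F[X] :=
  algEquivOfCompEqX (C a * X) (C a⁻¹ * X)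
    (by rw [mul_comp, C_comp, X_comp, ← mul_assoc, ← C_mul, mul_inv_cancel₀ ha, C_1, one_mul])
    (by rw [mul_comp, C_comp, X_comp, ← mul_assoc, ← C_mul, inv_mul_cancel₀ ha, C_1, one_mul])

theorem sub_apply (a : F) (ha : a ≠ 0) (f : F[X]) : sub a ha f = f.comp (C a * X) := rfl

theorem sub_symm_apply (a : F) (ha : a ≠ 0) (f : F[X]) : (sub a ha).symm f = f.comp (C a⁻¹ * X) := rfl

theorem coeff_comp_C_mul_X (f : F[X]) (a : F) (i : ℕ) : (f.comp (C a * X)).coeff i = f.coeff i * a ^ i := by
  rw [comp_C_mul_X_coeff]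

theorem sub_scaleRoots (a : F) (ha : a ≠ 0) (f : F[X]) :
    sub a ha (f.scaleRoots a) = C (a ^ f.natDegree) * f := by
  ext i
  rw [sub_apply, coeff_comp_C_mul_X, coeff_scaleRoots, coeff_C_mul]
  by_cases hi : i ≤ f.natDegree
  · rw [mul_assoc, ← pow_add, Nat.sub_add_cancel hi, mul_comm]
  · rw [coeff_eq_zero_of_natDegree_lt (by omega)]; ring

theorem irreducible_scaleRoots {a : F} (ha : a ≠ 0) {f : F[X]} (hf : Irreducible f) :
    Irreducible (f.scaleRoots a) := by
  rw [← MulEquiv.irreducible_iff (sub a ha), sub_scaleRoots]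
  rw [irreducible_isUnit_mul]
  · exact hf
  · rw [isUnit_C]
    exact (pow_ne_zero _ ha).isUnit

theorem aeval_smul_end {V : Type*} [AddCommGroup V] [Module F V] (T : Module.End F V) (a : F) (ha : a ≠ 0) (f : F[X]) :
    aeval (a • T) f = aeval T (sub a ha f) := by
  rw [sub_apply, aeval_comp]
  congr 2
  rw [map_mul, aeval_C, aeval_X, Algebra.smul_def]

theorem isDec_smul {V : Type*} [AddCommGroup V] [Module F V] {T : Module.End F V} {ι : Type*} [Fintype ι]
    {p : ι → F[X]} {e : ι → ℕ} {v : ι → V} (h : IsDec T p e v) {a : F} (ha : a ≠ 0) :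
    IsDec (a • T) (fun i => (p i).scaleRoots a) e v := by
  refine ⟨fun i => (monic_scaleRoots_iff a).2 (h.monic i), fun i => irreducible_scaleRoots ha (h.irr i), h.pos, ?_, ?_⟩
  · intro m
    obtain ⟨f, hf⟩ := h.cyc.span m
    refine ⟨fun i => (sub a ha).symm (f i), ?_⟩
    rw [hf]
    refine Finset.sum_congr rfl fun i _ => ?_
    rw [aeval_smul_end T a ha, AlgEquiv.apply_symm_apply]
  · intro f
    have h1 : ∑ i, aeval (a • T) (f i) (v i) = ∑ i, aeval T (sub a ha (f i)) (v i) :=
      Finset.sum_congr rfl fun i _ => by rw [aeval_smul_end T a ha]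
    rw [h1, h.cyc.ind]
    refine forall_congr' fun i => ?_
    have h2 : (p i).scaleRoots a ^ e i ∣ f i ↔ sub a ha ((p i).scaleRoots a ^ e i) ∣ sub a ha (f i) :=
      (map_dvd_iff (sub a ha)).symm
    change _ ↔ (p i).scaleRoots a ^ e i ∣ f i
    rw [h2, map_pow, sub_scaleRoots]
    apply Associated.dvd_iff_dvd_left
    apply Associated.pow_pow
    refine (associated_unit_mul_left (p i) _ ?_).symm
    rw [isUnit_C]
    exact (pow_ne_zero _ ha).isUnit

theorem scaleRoots_prod {ι : Type*} (s : Finset ι) (f : ι → F[X]) (a : F) :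
    (∏ i ∈ s, f i).scaleRoots a = ∏ i ∈ s, (f i).scaleRoots a := by
  classical
  induction s using Finset.induction_on with
  | empty => rw [Finset.prod_empty, Finset.prod_empty, one_scaleRoots]
  | insert i s hi ih =>
    rw [Finset.prod_insert hi, Finset.prod_insert hi, mul_scaleRoots_of_noZeroDivisors, ih]

theorem hp_smul {V : Type*} [AddCommGroup V] [Module F V] [FiniteDimensional F V] (T : Module.End F V) {a : F}
    (ha : a ≠ 0) (j : ℕ) : hp (a • T) j = (hp T j).scaleRoots a := by
  obtain ⟨d, p, e, v, hd, h1⟩ := hp_def T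
  rw [h1, hp_eq (isDec_smul hd ha), scaleRoots_prod]

theorem aeval_similar {V V' : Type*} [AddCommGroup V] [Module F V] [AddCommGroup V'] [Module F V']
    {T : Module.End F V} {T' : Module.End F V'} (E : V ≃ₗ[F] V') (hE : ∀ x, E (T x) = T' (E x)) (f : F[X]) (x : V) :
    E (aeval T f x) = aeval T' f (E x) := by
  induction f using Polynomial.induction_on' with
  | add f g hf hg => rw [map_add, map_add, LinearMap.add_apply, LinearMap.add_apply, map_add, hf, hg]
  | monomial n a =>
    have h : ∀ n (x : V), E ((T ^ n) x) = (T' ^ n) (E x) := by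
      intro n
      induction n with
      | zero => intro x; simp
      | succ n ih => intro x; rw [pow_succ, pow_succ, Module.End.mul_apply, Module.End.mul_apply, ih, hE]
    rw [aeval_monomial, aeval_monomial, Module.End.mul_apply, Module.End.mul_apply, Module.algebraMap_end_apply,
      Module.algebraMap_end_apply, map_smul, h]

theorem hp_similar {V V' : Type*} [AddCommGroup V] [Module F V] [FiniteDimensional F V]
    [AddCommGroup V'] [Module F V'] [FiniteDimensional F V'] {T : Module.End F V} {T' : Module.End F V'}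
    (E : V ≃ₗ[F] V') (hE : ∀ x, E (T x) = T' (E x)) (j : ℕ) : hp T j = hp T' j := by
  apply hp_congr
  intro φ _ _ j
  refine LinearEquiv.finrank_eq
    (LinearEquiv.ofSubmodules E _ _ (le_antisymm ?_ ?_))
  · rintro _ ⟨x, hx, rfl⟩
    rw [LinearMap.mem_ker]
    rw [SetLike.mem_coe, LinearMap.mem_ker] at hx
    have := aeval_similar E hE (φ ^ j) x
    rw [hx, map_zero] at this
    exact this.symm
  · intro y hy
    rw [LinearMap.mem_ker] at hy
    refine ⟨E.symm y, ?_, E.apply_symm_apply y⟩
    rw [SetLike.mem_coe, LinearMap.mem_ker]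
    apply E.injective
    rw [aeval_similar E hE, LinearEquiv.apply_symm_apply, hy, map_zero]

end Cfsg.Agent.H151.ScaleHp
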