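import Cfsg.Agent.H151.SLBound
import Cfsg.Agent.H151.ScaleHp
import Cfsg.Agent.H151.CenClass

/-! # The number of classes of `PSL_n(q)` (helper151)

`(q - 1) d k(PSL_n(q)) ≤ ∑_{c ^ n = 1} ∑_{(a, b)} #{tuples in x^o(c) supported on the multiples of lcm(o(a), o(b))}`.
-/

set_option autoImplicit false

namespace Cfsg.Agent.H151.PSLC

open Polynomial Module Cfsg.Agent.H151.Cnt Cfsg.Agent.H151.GLC Cfsg.Agent.H151.SLC Cfsg.Agent.H151.ScaleHp Cfsg.Agent.H152

universe u

variable {F : Type u} [Field F] {n : ℕ}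

/-! ### The canonical tuple of a matrix -/

/-- the canonical tuple -/
noncomputable def hdat (A : Matrix (Fin n) (Fin n) F) : ℕ → F[X] := hp (Matrix.toLin' A)

theorem hdat_coeff_ne (A : Matrix (Fin n) (Fin n) F) (hA : A.det ≠ 0) (k : ℕ) : (hdat A k).coeff 0 ≠ 0 := by
  classical
  obtain ⟨d, p, e, v, hd, h1⟩ := hp_def (Matrix.toLin' A)
  rw [hdat, h1, coeff_zero_prod, Finset.prod_ne_zero_iff]
  intro i _ hi
  have h2 := hd.cyc.det_eq (fun i => (hd.monic i).pow _)
  rw [LinearMap.det_toLin'] at h2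
  apply hA
  rw [h2]
  apply Finset.prod_eq_zero (Finset.mem_univ i)
  rw [coeff_zero_eq_eval_zero, eval_pow, ← coeff_zero_eq_eval_zero, hi, zero_pow (hd.pos i).ne', mul_zero]

theorem hdat_mem_X (A : Matrix (Fin n) (Fin n) F) (hA : A.det ≠ 0) : hdat A ∈ X F n n := by
  have hfr : finrank F (Fin n → F) = n := by simp
  refine ⟨fun k => ⟨hp_monic _ k, hdat_coeff_ne A hA k⟩, ?_, ?_⟩
  · rintro k (rfl | hk)
    · exact hp_zero _
    · exact hp_of_lt _ (by rw [hfr]; exact hk)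
  · have := sum_hp (Matrix.toLin' A)
    rw [hfr] at this
    exact this

theorem det_eq_tdet' (A : Matrix (Fin n) (Fin n) F) : A.det = tdet n (hdat A) := by
  have hfr : finrank F (Fin n → F) = n := by simp
  have := det_hp (Matrix.toLin' A)
  rw [hfr, LinearMap.det_toLin'] at this
  exact this

theorem exists_conj_of_hdat_eq (A B : Matrix (Fin n) (Fin n) F) (h : hdat A = hdat B) :
    ∃ P : GL (Fin n) F, (P : Matrix (Fin n) (Fin n) F) * A = B * (P : Matrix (Fin n) (Fin n) F) := by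
  classical
  obtain ⟨ψ, hψ⟩ := exists_equiv_of_hp (Matrix.toLin' A) (Matrix.toLin' B) (fun k => congrFun h k)
  refine ⟨⟨LinearMap.toMatrix' ψ.toLinearMap, LinearMap.toMatrix' ψ.symm.toLinearMap, ?_, ?_⟩, ?_⟩
  · rw [← LinearMap.toMatrix'_comp]; simp
  · rw [← LinearMap.toMatrix'_comp]; simp
  · apply Matrix.toLin'.injective
    change Matrix.toLin' (LinearMap.toMatrix' ψ.toLinearMap * A) = Matrix.toLin' (B * LinearMap.toMatrix' ψ.toLinearMap)
    rw [Matrix.toLin'_mul, Matrix.toLin'_mul, Matrix.toLin'_toMatrix']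
    ext1 v
    ext i
    exact congrFun (hψ _) i

theorem hdat_eq_of_conj {A B P : Matrix (Fin n) (Fin n) F} (hP : IsUnit P) (h : P * A = B * P) : hdat A = hdat B := by
  funext j
  have hPd : IsUnit P.det := (Matrix.isUnit_iff_isUnit_det _).1 hP
  refine hp_similar (Matrix.toLinearEquiv' P hP.invertible) (fun x => ?_) j
  change Matrix.toLin' P (Matrix.toLin' A x) = Matrix.toLin' B (Matrix.toLin' P x)
  rw [← LinearMap.comp_apply, ← LinearMap.comp_apply, ← Matrix.toLin'_mul, ← Matrix.toLin'_mul, h]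

theorem hdat_smul (A : Matrix (Fin n) (Fin n) F) {a : F} (ha : a ≠ 0) (k : ℕ) :
    hdat (a • A) k = (hdat A k).scaleRoots a := by
  rw [hdat, map_smul]
  exact hp_smul _ ha k

theorem exists_comm_det' [Finite F] (A : Matrix (Fin n) (Fin n) F) (k : ℕ) (hk : hdat A k ≠ 1) (c : F) :
    ∃ Z : Matrix (Fin n) (Fin n) F, Z * A = A * Z ∧ Z.det = c ^ k := by
  classical
  obtain ⟨z, hz, hzd⟩ := exists_commute_det (Matrix.toLin' A) hk c
  refine ⟨LinearMap.toMatrix' z, ?_, ?_⟩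
  · apply Matrix.toLin'.injective
    rw [Matrix.toLin'_mul, Matrix.toLin'_mul, Matrix.toLin'_toMatrix']
    exact hz
  · rw [← LinearMap.det_toLin', Matrix.toLin'_toMatrix', hzd]

/-! ### Classes of `SL_n` fixed by a scalar -/

/-- the tuple is fixed by `c` -/
def Fx (c : F) (g : ℕ → F[X]) : Prop := ∀ k, (g k).scaleRoots c = g k

theorem hdat_out (A : Matrix.SpecialLinearGroup (Fin n) F) :
    hdat (Quotient.out (ConjClasses.mk A) : Matrix.SpecialLinearGroup (Fin n) F).1 = hdat A.1 := by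
  have h : IsConj (Quotient.out (ConjClasses.mk A)) A := by
    rw [← ConjClasses.mk_eq_mk_iff_isConj]
    exact Quotient.out_eq (ConjClasses.mk A)
  rw [isConj_iff] at h
  obtain ⟨c, hc⟩ := h
  have h2 : c * Quotient.out (ConjClasses.mk A) = A * c := mul_inv_eq_iff_eq_mul.1 hc
  have h3 : IsUnit c.1 := by
    rw [Matrix.isUnit_iff_isUnit_det]
    have : c.1.det = 1 := c.2
    rw [this]; exact isUnit_one
  exact hdat_eq_of_conj h3 (congrArg Subtype.val h2)

/-- the tuple of a class fixed by `z` -/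
theorem fx_of_zact {z : Subgroup.center (Matrix.SpecialLinearGroup (Fin n) F)} {a : F} (ha : a ≠ 0)
    (hz : z.1.1 = a • (1 : Matrix (Fin n) (Fin n) F)) {c : ConjClasses (Matrix.SpecialLinearGroup (Fin n) F)}
    (hc : CenClass.zact z c = c) : Fx a (hdat (Quotient.out c : Matrix.SpecialLinearGroup (Fin n) F).1) := by
  intro k
  set A : Matrix.SpecialLinearGroup (Fin n) F := Quotient.out c with hA
  have h1 : ConjClasses.mk A = c := Quotient.out_eq c
  have h2 : ConjClasses.mk (z.1 * A) = ConjClasses.mk A := by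
    rw [← CenClass.zact_mk, h1, hc]
  rw [← hdat_smul _ ha]
  have h3 : (z.1 * A).1 = a • A.1 := by
    change z.1.1 * A.1 = _
    rw [hz, Matrix.smul_mul, Matrix.one_mul]
  rw [← h3, ← hdat_out (z.1 * A), h2, hdat_out A]

theorem card_fibre_le' [Finite F] (g : ℕ → F[X]) :
    Nat.card {c : ConjClasses (Matrix.SpecialLinearGroup (Fin n) F) //
      hdat (Quotient.out c : Matrix.SpecialLinearGroup (Fin n) F).1 = g} ≤ tt g := by
  classical
  rcases isEmpty_or_nonempty {c : ConjClasses (Matrix.SpecialLinearGroup (Fin n) F) //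
      hdat (Quotient.out c : Matrix.SpecialLinearGroup (Fin n) F).1 = g} with he | ⟨⟨c₀, hc₀⟩⟩
  · rw [Nat.card_of_isEmpty]; exact Nat.zero_le _
  · set A₀ : Matrix.SpecialLinearGroup (Fin n) F := Quotient.out c₀ with hA₀
    let A' : GL (Fin n) F := Matrix.SpecialLinearGroup.toGL A₀
    have hA' : (A' : Matrix (Fin n) (Fin n) F) = A₀.1 := rfl
    let H : Subgroup Fˣ := (Subgroup.centralizer {A'}).map Matrix.GeneralLinearGroup.det
    have hdat : hdat A₀.1 = g := hc₀
    have hH : ∀ k ∈ {k : ℕ | g k ≠ 1}, ∀ x : Fˣ, x ^ k ∈ H := by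
      intro k hk x
      obtain ⟨Z, hZ, hZd⟩ := exists_comm_det' A₀.1 k (by rw [hdat]; exact hk) x
      have hZd0 : Z.det ≠ 0 := by rw [hZd]; exact pow_ne_zero _ x.ne_zero
      refine ⟨Matrix.GeneralLinearGroup.mkOfDetNeZero Z hZd0, ?_, ?_⟩
      · rw [SetLike.mem_coe, Subgroup.mem_centralizer_singleton_iff]
        exact Units.ext hZ
      · apply Units.ext
        exact hZd
    refine le_trans ?_ (card_quotient_le _ H hH)
    have key : ∀ c : {c : ConjClasses (Matrix.SpecialLinearGroup (Fin n) F) //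
        PSLC.hdat (Quotient.out c : Matrix.SpecialLinearGroup (Fin n) F).1 = g},
        ∃ P : GL (Fin n) F, P.1 * A₀.1 = (Quotient.out c.1 : Matrix.SpecialLinearGroup (Fin n) F).1 * P.1 := by
      rintro ⟨c, hc⟩
      apply exists_conj_of_hdat_eq
      exact hdat.trans hc.symm
    choose P hP using key
    refine Nat.card_le_card_of_injective (fun c => (QuotientGroup.mk (Matrix.GeneralLinearGroup.det (P c)) : Fˣ ⧸ H)) ?_
    intro c c' hcc
    rw [QuotientGroup.eq] at hcc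
    obtain ⟨Z, hZ, hZd⟩ := hcc
    rw [SetLike.mem_coe, Subgroup.mem_centralizer_singleton_iff] at hZ
    set Q : GL (Fin n) F := P c' * Z⁻¹ * (P c)⁻¹ with hQ
    let Ac : GL (Fin n) F := Matrix.SpecialLinearGroup.toGL (Quotient.out c.1)
    let Ac' : GL (Fin n) F := Matrix.SpecialLinearGroup.toGL (Quotient.out c'.1)
    have h1 : P c * A' = Ac * P c := Units.ext (hP c)
    have h2 : P c' * A' = Ac' * P c' := Units.ext (hP c')
    have hQA : Q * Ac = Ac' * Q := by
      have h3 : Ac = P c * A' * (P c)⁻¹ := by rw [h1]; group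
      have h4 : Ac' = P c' * A' * (P c')⁻¹ := by rw [h2]; group
      have h5 : Z⁻¹ * A' = A' * Z⁻¹ := by
        rw [inv_mul_eq_iff_eq_mul, ← mul_assoc, hZ, mul_assoc, mul_inv_cancel, mul_one]
      rw [hQ, h3, h4]
      calc P c' * Z⁻¹ * (P c)⁻¹ * (P c * A' * (P c)⁻¹) = P c' * (Z⁻¹ * A') * (P c)⁻¹ := by group
        _ = P c' * (A' * Z⁻¹) * (P c)⁻¹ := by rw [h5]
        _ = _ := by group
    have hQd : Matrix.GeneralLinearGroup.det Q = 1 := by
      rw [hQ, map_mul, map_mul, map_inv, map_inv, hZd]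
      rw [mul_inv, inv_inv]
      have : ∀ a b : Fˣ, b * (a * b⁻¹) * a⁻¹ = 1 := by
        intro a b
        rw [mul_comm a, ← mul_assoc, mul_inv_cancel, one_mul, mul_inv_cancel]
      exact this _ _
    have hQd' : Q.1.det = 1 := congrArg Units.val hQd
    apply Subtype.ext
    rw [← Quotient.out_eq c.1, ← Quotient.out_eq c'.1]
    apply Quotient.sound
    change IsConj (Quotient.out c.1) (Quotient.out c'.1)
    rw [isConj_iff]
    let Q' : Matrix.SpecialLinearGroup (Fin n) F := ⟨Q.1, hQd'⟩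
    have h6 : Q' * Quotient.out c.1 = Quotient.out c'.1 * Q' := Subtype.ext (congrArg Units.val hQA)
    exact ⟨Q', mul_inv_eq_iff_eq_mul.2 h6⟩

/-! ### Counting -/

theorem scaleRoots_eq_iff (f : F[X]) (c : F) :
    f.scaleRoots c = f ↔ ∀ i, f.coeff i * c ^ (f.natDegree - i) = f.coeff i := by
  rw [Polynomial.ext_iff]
  exact forall_congr' fun i => by rw [coeff_scaleRoots]

theorem fx_act (c : F) {g : ℕ → F[X]} (h : Fx c g) (I : Finset ℕ) (γ : ℕ → Fˣ) :
    Fx c (act I γ g) := by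
  intro k
  have hk := (scaleRoots_eq_iff _ _).1 (h k)
  rw [scaleRoots_eq_iff]
  intro i
  rw [act_natDegree]
  by_cases hkI : k ∈ I
  · rcases Nat.eq_zero_or_pos i with rfl | hi
    · rw [act_coeff hkI]
      have h0 := hk 0
      rw [mul_assoc, h0]
    · rw [act, if_pos hkI, coeff_add, coeff_C, if_neg hi.ne', add_zero]
      exact hk i
  · rw [act, if_neg hkI]
    exact hk i

theorem card_det_one_mul_le' [Finite F] (c : F) (I : Finset ℕ) :
    Nat.card {g : X F n n // Fx c g.1 ∧ supp n g.1 = I ∧ tdet n g.1 = 1} * Nat.card Fˣ ≤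
      Nat.card {x : Fˣ // ∀ k ∈ I, x ^ k = 1} * Nat.card {g : X F n n // Fx c g.1 ∧ supp n g.1 = I} := by
  classical
  let H := (phi F I).range
  have hH : ∀ k ∈ (I : Set ℕ), ∀ x : Fˣ, x ^ k ∈ H := by
    intro k hk x
    refine ⟨Pi.mulSingle k x, ?_⟩
    change ∏ j ∈ I, (Pi.mulSingle k x : ℕ → Fˣ) j ^ j = x ^ k
    rw [Finset.prod_eq_single k]
    · rw [Pi.mulSingle_eq_same]
    · intro j _ hj; rw [Pi.mulSingle_eq_of_ne hj, one_pow]
    · intro h; exact absurd hk h
  have h1 : Nat.card {g : X F n n // Fx c g.1 ∧ supp n g.1 = I ∧ tdet n g.1 = 1} * Nat.card H ≤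
      Nat.card {g : X F n n // Fx c g.1 ∧ supp n g.1 = I} := by
    rw [← Nat.card_prod]
    have hγ : ∀ h : H, ∃ γ : ℕ → Fˣ, phi F I γ = h.1 := fun h => h.2
    choose γ hγ using hγ
    refine Nat.card_le_card_of_injective
      (fun z => ⟨⟨act I (γ z.2) z.1.1.1, (act_mem (γ z.2) z.1.1.2 z.1.2.2.1).1⟩,
        fx_act c z.1.2.1 I (γ z.2),
        (act_mem (γ z.2) z.1.1.2 z.1.2.2.1).2⟩) ?_
    rintro ⟨g, h⟩ ⟨g', h'⟩ hgg
    have e1 : act I (γ h) g.1.1 = act I (γ h') g'.1.1 := congrArg (fun z => z.1.1) hgg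
    have e2 : ∀ (g : {g : X F n n // Fx c g.1 ∧ supp n g.1 = I ∧ tdet n g.1 = 1}) (h : H),
        tdet n (act I (γ h) g.1.1) = (h.1 : F) := by
      intro g h
      rw [tdet_act (γ h) g.2.2.1, g.2.2.2, mul_one]
      exact congrArg Units.val (hγ h)
    have e3 : h = h' := by
      apply Subtype.ext
      apply Units.ext
      rw [← e2 g h, ← e2 g' h', e1]
    subst e3
    have e4 := act_injective (γ h) e1
    refine Prod.ext (Subtype.ext (Subtype.ext e4)) rfl
  have h2 : Nat.card (Fˣ ⧸ H) ≤ Nat.card {x : Fˣ // ∀ k ∈ I, x ^ k = 1} := card_quotient_le (I : Set ℕ) H hH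
  calc Nat.card {g : X F n n // Fx c g.1 ∧ supp n g.1 = I ∧ tdet n g.1 = 1} * Nat.card Fˣ
      = (Nat.card {g : X F n n // Fx c g.1 ∧ supp n g.1 = I ∧ tdet n g.1 = 1} * Nat.card H) * Nat.card (Fˣ ⧸ H) := by
        rw [Subgroup.card_eq_card_quotient_mul_card_subgroup H]; ring
    _ ≤ Nat.card {g : X F n n // Fx c g.1 ∧ supp n g.1 = I} * Nat.card {x : Fˣ // ∀ k ∈ I, x ^ k = 1} :=
        Nat.mul_le_mul h1 h2
    _ = _ := mul_comm _ _

/-- the fixed tuples killed by `a` and `b` -/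
noncomputable def cf (F : Type u) [Field F] (n : ℕ) (c : F) (p : Fˣ × Fˣ) : ℕ :=
  Nat.card {g : X F n n // Fx c g.1 ∧ ∀ k, g.1 k ≠ 1 → p.1 ^ k = 1 ∧ p.2 ^ k = 1}

theorem sum_tt_sq' [Finite F] (c : F) [Fintype {g : X F n n // Fx c g.1}] [Fintype (Fˣ × Fˣ)] :
    ∑ g : {g : X F n n // Fx c g.1}, tt g.1.1 ^ 2 = ∑ p : Fˣ × Fˣ, cf F n c p := by
  classical
  have h1 : ∀ g : {g : X F n n // Fx c g.1}, tt g.1.1 ^ 2 =
      ∑ p : Fˣ × Fˣ, if (∀ k, g.1.1 k ≠ 1 → p.1 ^ k = 1 ∧ p.2 ^ k = 1) then 1 else 0 := by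
    intro g
    rw [← Finset.card_filter, ← Fintype.card_subtype, ← Nat.card_eq_fintype_card, tt, pow_two, ← Nat.card_prod]
    refine Nat.card_congr
      { toFun := fun z => ⟨(z.1.1, z.2.1), fun k hk => ⟨z.1.2 k hk, z.2.2 k hk⟩⟩
        invFun := fun z => (⟨z.1.1, fun k hk => (z.2 k hk).1⟩, ⟨z.1.2, fun k hk => (z.2 k hk).2⟩)
        left_inv := fun z => rfl
        right_inv := fun z => rfl }
  have h2 : ∀ p : Fˣ × Fˣ, cf F n c p =
      ∑ g : {g : X F n n // Fx c g.1}, if (∀ k, g.1.1 k ≠ 1 → p.1 ^ k = 1 ∧ p.2 ^ k = 1) then 1 else 0 := by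
    intro p
    rw [← Finset.card_filter, ← Fintype.card_subtype, ← Nat.card_eq_fintype_card, cf]
    exact Nat.card_congr
      { toFun := fun z => ⟨⟨z.1, z.2.1⟩, z.2.2⟩
        invFun := fun z => ⟨z.1.1, z.1.2, z.2⟩
        left_inv := fun z => rfl
        right_inv := fun z => rfl }
  simp_rw [h1, h2]
  exact Finset.sum_comm

/-- **The classes of `SL_n` fixed by the scalar `a`.** -/
theorem card_fixed_mul_le [Finite F] [Fintype (Fˣ × Fˣ)] (z : Subgroup.center (Matrix.SpecialLinearGroup (Fin n) F))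
    {a : F} (ha : a ≠ 0) (hz : z.1.1 = a • (1 : Matrix (Fin n) (Fin n) F)) :
    Nat.card {c : ConjClasses (Matrix.SpecialLinearGroup (Fin n) F) // CenClass.zact z c = c} * Nat.card Fˣ ≤
      ∑ p : Fˣ × Fˣ, cf F n a p := by
  classical
  have := Fintype.ofFinite (X F n n)
  have := Fintype.ofFinite {g : X F n n // Fx a g.1 ∧ tdet n g.1 = 1}
  have := Fintype.ofFinite {g : X F n n // Fx a g.1}
  set T : Finset ℕ → ℕ := fun I => Nat.card {x : Fˣ // ∀ k ∈ I, x ^ k = 1} with hT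
  let Φ : {c : ConjClasses (Matrix.SpecialLinearGroup (Fin n) F) // CenClass.zact z c = c} →
      {g : X F n n // Fx a g.1 ∧ tdet n g.1 = 1} := fun c =>
    ⟨⟨hdat (Quotient.out c.1 : Matrix.SpecialLinearGroup (Fin n) F).1, hdat_mem_X _ (by
      rw [(Quotient.out c.1 : Matrix.SpecialLinearGroup (Fin n) F).2]; exact one_ne_zero)⟩,
      fx_of_zact ha hz c.2, by
      rw [← det_eq_tdet']; exact (Quotient.out c.1 : Matrix.SpecialLinearGroup (Fin n) F).2⟩
  have h1 : Nat.card {c : ConjClasses (Matrix.SpecialLinearGroup (Fin n) F) // CenClass.zact z c = c} ≤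
      ∑ g : {g : X F n n // Fx a g.1 ∧ tdet n g.1 = 1}, T (supp n g.1.1) := by
    refine card_le_sum_fibres Φ _ fun g => ?_
    rw [hT]
    simp only
    rw [← tt_eq g.1.2]
    refine le_trans ?_ (card_fibre_le' (n := n) g.1.1)
    refine Nat.card_le_card_of_injective (fun c => ⟨c.1.1, congrArg (fun z => z.1.1) c.2⟩) ?_
    intro c c' hcc
    exact Subtype.ext (Subtype.ext (Subtype.mk.inj hcc))
  have h2 := sum_fibre (Y := {g : X F n n // Fx a g.1 ∧ tdet n g.1 = 1}) (Finset.range (n + 1)).powerset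
    (fun g => supp n g.1.1) (fun g => supp_mem_powerset _) T
  have h3 := sum_fibre (Y := {g : X F n n // Fx a g.1}) (Finset.range (n + 1)).powerset
    (fun g => supp n g.1.1) (fun g => supp_mem_powerset _) (fun I => T I ^ 2)
  rw [← sum_tt_sq' (F := F) (n := n) a]
  have h4 : ∑ g : {g : X F n n // Fx a g.1}, tt g.1.1 ^ 2 = ∑ g : {g : X F n n // Fx a g.1}, T (supp n g.1.1) ^ 2 :=
    Finset.sum_congr rfl fun g _ => by rw [tt_eq g.1.2]
  rw [h4, h3]
  refine (Nat.mul_le_mul_right _ h1).trans ?_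
  rw [h2, Finset.sum_mul]
  refine Finset.sum_le_sum fun I _ => ?_
  have h5 := card_det_one_mul_le' (F := F) (n := n) a I
  have h6 : Nat.card {g : {g : X F n n // Fx a g.1 ∧ tdet n g.1 = 1} // supp n g.1.1 = I} =
      Nat.card {g : X F n n // Fx a g.1 ∧ supp n g.1 = I ∧ tdet n g.1 = 1} :=
    Nat.card_congr
      { toFun := fun z => ⟨z.1.1, z.1.2.1, z.2, z.1.2.2⟩
        invFun := fun z => ⟨⟨z.1, z.2.1, z.2.2.2⟩, z.2.2.1⟩
        left_inv := fun z => rfl
        right_inv := fun z => rfl }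
  have h7 : Nat.card {g : {g : X F n n // Fx a g.1} // supp n g.1.1 = I} =
      Nat.card {g : X F n n // Fx a g.1 ∧ supp n g.1 = I} :=
    Nat.card_congr
      { toFun := fun z => ⟨z.1.1, z.1.2, z.2⟩
        invFun := fun z => ⟨⟨z.1, z.2.1⟩, z.2.2⟩
        left_inv := fun z => rfl
        right_inv := fun z => rfl }
  rw [h7]
  calc Nat.card {g : {g : X F n n // Fx a g.1 ∧ tdet n g.1 = 1} // supp n g.1.1 = I} * T I * Nat.card Fˣ
      = (Nat.card {g : X F n n // Fx a g.1 ∧ supp n g.1 = I ∧ tdet n g.1 = 1} * Nat.card Fˣ) * T I := by rw [h6]; ring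
    _ ≤ (T I * Nat.card {g : X F n n // Fx a g.1 ∧ supp n g.1 = I}) * T I := Nat.mul_le_mul_right _ h5
    _ = _ := by ring

end Cfsg.Agent.H151.PSLC
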