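import Cfsg.Agent.H151.GLClass

/-! # The number of classes of `SL_n(q)` (helper151)

`(q - 1) k(SL_n(q)) ≤ ∑_{(a, b)} #{tuples supported on the multiples of lcm(o(a), o(b))}`, the sum over all pairs of
elements of `Fˣ`.
-/

set_option autoImplicit false

namespace Cfsg.Agent.H151.SLC

open Polynomial Module Cfsg.Agent.H151.Prim Cfsg.Agent.H151.Cnt Cfsg.Agent.H151.GLC

universe u

/-! ### Index of a subgroup of a cyclic group -/

theorem card_quotient_le {C : Type*} [CommGroup C] [Finite C] [IsCyclic C] (I : Set ℕ) (H : Subgroup C)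
    (hH : ∀ k ∈ I, ∀ x : C, x ^ k ∈ H) :
    Nat.card (C ⧸ H) ≤ Nat.card {x : C // ∀ k ∈ I, x ^ k = 1} := by
  classical
  obtain ⟨g, hg⟩ := IsCyclic.exists_generator (α := C)
  have hgo : orderOf g = Nat.card C := orderOf_eq_card_of_forall_mem_zpowers hg
  set N := Nat.card (C ⧸ H) with hN
  have hN0 : 0 < N := Nat.card_pos
  have hNC : N ∣ Nat.card C := H.index_dvd_card
  obtain ⟨c, hc⟩ := hNC
  have hC0 : 0 < Nat.card C := Nat.card_pos
  have hc0 : c ≠ 0 := by rintro rfl; rw [mul_zero] at hc; omega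
  have hNk : ∀ k ∈ I, N ∣ k := by
    intro k hk
    have hgen : ∀ y : C ⧸ H, y ∈ Subgroup.zpowers (QuotientGroup.mk g : C ⧸ H) := by
      intro y
      obtain ⟨x, rfl⟩ := QuotientGroup.mk_surjective y
      obtain ⟨z, rfl⟩ := Subgroup.mem_zpowers_iff.1 (hg x)
      exact Subgroup.mem_zpowers_iff.2 ⟨z, by rw [QuotientGroup.mk_zpow]⟩
    rw [hN, ← orderOf_eq_card_of_forall_mem_zpowers hgen]
    apply orderOf_dvd_of_pow_eq_one
    rw [← QuotientGroup.mk_pow, QuotientGroup.eq_one_iff]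
    exact hH k hk g
  have hz : orderOf (g ^ c) = N := by
    rw [orderOf_pow' g hc0, hgo, hc, Nat.gcd_eq_right (Dvd.intro_left N rfl)]
    exact Nat.mul_div_cancel N (Nat.pos_of_ne_zero hc0)
  rw [← hz, ← Nat.card_zpowers]
  refine Nat.card_le_card_of_injective (fun x => ⟨x.1, fun k hk => ?_⟩) ?_
  · obtain ⟨j, hj⟩ := Subgroup.mem_zpowers_iff.1 x.2
    obtain ⟨m, hm⟩ := hNk k hk
    rw [← hj, hm, pow_mul]
    have : ((g ^ c) ^ j) ^ N = 1 := by
      rw [← zpow_natCast, ← zpow_mul, mul_comm, zpow_mul, zpow_natCast, ← hz, pow_orderOf_eq_one, one_zpow]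
    rw [this, one_pow]
  · intro x y hxy
    exact Subtype.ext (Subtype.mk.inj hxy)

/-! ### Fibres -/

theorem card_le_sum_fibres {α β : Type*} [Finite α] [Fintype β] (Φ : α → β) (t : β → ℕ)
    (h : ∀ b, Nat.card {a // Φ a = b} ≤ t b) : Nat.card α ≤ ∑ b, t b := by
  classical
  rw [← Nat.card_congr (Equiv.sigmaFiberEquiv Φ), Nat.card_sigma]
  exact Finset.sum_le_sum fun b _ => h b

variable {F : Type u} [Field F] {n : ℕ}

/-- the number of elements killed by the support of the tuple `g` -/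
noncomputable def tt (g : ℕ → F[X]) : ℕ := Nat.card {x : Fˣ // ∀ k, g k ≠ 1 → x ^ k = 1}

/-- the tuple of a class of `SL_n` -/
noncomputable def slDat (c : ConjClasses (Matrix.SpecialLinearGroup (Fin n) F)) :
    {g : X F n n // tdet n g.1 = 1} :=
  ⟨⟨dat (Quotient.out c : Matrix.SpecialLinearGroup (Fin n) F).1, dat_mem_X _ (by
      rw [(Quotient.out c : Matrix.SpecialLinearGroup (Fin n) F).2]; exact one_ne_zero)⟩, by
    rw [← det_eq_tdet]; exact (Quotient.out c : Matrix.SpecialLinearGroup (Fin n) F).2⟩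

theorem card_fibre_le [Finite F] (g : {g : X F n n // tdet n g.1 = 1}) :
    Nat.card {c // slDat (F := F) (n := n) c = g} ≤ tt g.1.1 := by
  classical
  rcases isEmpty_or_nonempty {c // slDat (F := F) (n := n) c = g} with he | ⟨⟨c₀, hc₀⟩⟩
  · rw [Nat.card_of_isEmpty]; exact Nat.zero_le _
  · set A₀ : Matrix.SpecialLinearGroup (Fin n) F := Quotient.out c₀ with hA₀
    let A' : GL (Fin n) F := Matrix.SpecialLinearGroup.toGL A₀
    have hA' : (A' : Matrix (Fin n) (Fin n) F) = A₀.1 := rfl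
    let H : Subgroup Fˣ := (Subgroup.centralizer {A'}).map Matrix.GeneralLinearGroup.det
    have hdat : dat A₀.1 = g.1.1 := congrArg (fun z => z.1.1) hc₀
    have hH : ∀ k ∈ {k : ℕ | g.1.1 k ≠ 1}, ∀ x : Fˣ, x ^ k ∈ H := by
      intro k hk x
      obtain ⟨Z, hZ, hZd⟩ := exists_comm_det A₀.1 k (by rw [hdat]; exact hk) x x.ne_zero
      have hZd0 : Z.det ≠ 0 := by rw [hZd]; exact pow_ne_zero _ x.ne_zero
      refine ⟨Matrix.GeneralLinearGroup.mkOfDetNeZero Z hZd0, ?_, ?_⟩
      · rw [SetLike.mem_coe, Subgroup.mem_centralizer_singleton_iff]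
        exact Units.ext hZ
      · apply Units.ext
        exact hZd
    refine le_trans ?_ (card_quotient_le _ H hH)
    have key : ∀ c : {c // slDat (F := F) (n := n) c = g},
        ∃ P : GL (Fin n) F, P.1 * A₀.1 = (Quotient.out c.1 : Matrix.SpecialLinearGroup (Fin n) F).1 * P.1 := by
      rintro ⟨c, hc⟩
      apply exists_conj_of_dat_eq
      exact hdat.trans (congrArg (fun z => z.1.1) hc).symm
    choose P hP using key
    refine Nat.card_le_card_of_injective (fun c => (QuotientGroup.mk (Matrix.GeneralLinearGroup.det (P c)) : Fˣ ⧸ H)) ?_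
    intro c c' hcc
    rw [QuotientGroup.eq] at hcc
    obtain ⟨Z, hZ, hZd⟩ := hcc
    rw [SetLike.mem_coe, Subgroup.mem_centralizer_singleton_iff] at hZ
    set Q : GL (Fin n) F := P c' * Z⁻¹ * (P c)⁻¹ with hQ
    let Ac : GL (Fin n) F := Matrix.SpecialLinearGroup.toGL (Quotient.out c.1)
    let Ac' : GL (Fin n) F := Matrix.SpecialLinearGroup.toGL (Quotient.out c'.1)
    have h1 : P c * A' = Ac * P c := Units.ext (hP c)
    have h2 : P c' * A' = Ac' * P c' := Units.ext (hP c')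
    have hQA : Q * Ac = Ac' * Q := by
      have h3 : Ac = P c * A' * (P c)⁻¹ := by rw [h1]; group
      have h4 : Ac' = P c' * A' * (P c')⁻¹ := by rw [h2]; group
      have h5 : Z⁻¹ * A' = A' * Z⁻¹ := by
        rw [inv_mul_eq_iff_eq_mul, ← mul_assoc, hZ, mul_assoc, mul_inv_cancel, mul_one]
      rw [hQ, h3, h4]
      calc P c' * Z⁻¹ * (P c)⁻¹ * (P c * A' * (P c)⁻¹) = P c' * (Z⁻¹ * A') * (P c)⁻¹ := by group
        _ = P c' * (A' * Z⁻¹) * (P c)⁻¹ := by rw [h5]
        _ = _ := by group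
    have hQd : Matrix.GeneralLinearGroup.det Q = 1 := by
      rw [hQ, map_mul, map_mul, map_inv, map_inv, hZd]
      rw [mul_inv, inv_inv]
      have : ∀ a b : Fˣ, b * (a * b⁻¹) * a⁻¹ = 1 := by
        intro a b
        rw [mul_comm a, ← mul_assoc, mul_inv_cancel, one_mul, mul_inv_cancel]
      exact this _ _
    have hQd' : Q.1.det = 1 := congrArg Units.val hQd
    apply Subtype.ext
    rw [← Quotient.out_eq c.1, ← Quotient.out_eq c'.1]
    apply Quotient.sound
    change IsConj (Quotient.out c.1) (Quotient.out c'.1)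
    rw [isConj_iff]
    let Q' : Matrix.SpecialLinearGroup (Fin n) F := ⟨Q.1, hQd'⟩
    have h6 : Q' * Quotient.out c.1 = Quotient.out c'.1 * Q' := Subtype.ext (congrArg Units.val hQA)
    exact ⟨Q', mul_inv_eq_iff_eq_mul.2 h6⟩

/-! ### The support of a tuple and the action of tuples of scalars -/

open Classical in
/-- the support -/
noncomputable def supp (n : ℕ) (g : ℕ → F[X]) : Finset ℕ := (Finset.range (n + 1)).filter fun k => g k ≠ 1

theorem mem_supp {g : ℕ → F[X]} (hg : g ∈ X F n n) (k : ℕ) : k ∈ supp n g ↔ g k ≠ 1 := by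
  classical
  rw [supp, Finset.mem_filter, Finset.mem_range]
  refine ⟨fun h => h.2, fun h => ⟨?_, h⟩⟩
  by_contra hk
  exact h (hg.2.1 k (by omega))

open Classical in
/-- scale the constant terms of the polynomials with index in `I` -/
noncomputable def act (I : Finset ℕ) (γ : ℕ → Fˣ) (g : ℕ → F[X]) : ℕ → F[X] :=
  fun k => if k ∈ I then g k + C (((γ k : F) - 1) * (g k).coeff 0) else g k

theorem natDegree_pos_of_ne {f : F[X]} (hf : f.Monic) (h : f ≠ 1) : 0 < f.natDegree := by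
  rw [Nat.pos_iff_ne_zero]
  intro h0
  exact h ((Polynomial.Monic.natDegree_eq_zero hf).1 h0)

theorem act_natDegree (I : Finset ℕ) (γ : ℕ → Fˣ) (g : ℕ → F[X]) (k : ℕ) :
    (act I γ g k).natDegree = (g k).natDegree := by
  rw [act]
  split_ifs
  · rw [natDegree_add_C]
  · rfl

theorem act_coeff {I : Finset ℕ} {γ : ℕ → Fˣ} {g : ℕ → F[X]} {k : ℕ} (hk : k ∈ I) :
    (act I γ g k).coeff 0 = γ k * (g k).coeff 0 := by
  rw [act, if_pos hk, coeff_add, coeff_C_zero]
  ring

theorem act_mem {I : Finset ℕ} (γ : ℕ → Fˣ) {g : ℕ → F[X]} (hg : g ∈ X F n n) (hI : supp n g = I) :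
    act I γ g ∈ X F n n ∧ supp n (act I γ g) = I := by
  have hmem : ∀ k, k ∈ I ↔ g k ≠ 1 := fun k => by rw [← hI, mem_supp hg]
  have hmon : ∀ k, (act I γ g k).Monic := by
    intro k
    rw [act]
    split_ifs with hk
    · apply (hg.1 k).1.add_of_left
      refine lt_of_le_of_lt degree_C_le ?_
      rw [← natDegree_pos_iff_degree_pos]
      exact natDegree_pos_of_ne (hg.1 k).1 ((hmem k).1 hk)
    · exact (hg.1 k).1
  have hX : act I γ g ∈ X F n n := by
    refine ⟨fun k => ⟨hmon k, ?_⟩, fun k hk => ?_, ?_⟩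
    · by_cases hk : k ∈ I
      · rw [act_coeff hk]
        exact mul_ne_zero (γ k).ne_zero (hg.1 k).2
      · rw [act, if_neg hk]; exact (hg.1 k).2
    · have h1 := hg.2.1 k hk
      rw [act, if_neg]
      · exact h1
      · rw [hmem]; exact fun h => h h1
    · refine Eq.trans ?_ hg.2.2
      exact Finset.sum_congr rfl fun k _ => by rw [act_natDegree]
  refine ⟨hX, ?_⟩
  ext k
  rw [mem_supp hX, hmem]
  by_cases hk : g k = 1
  · have : k ∉ I := by rw [hmem]; exact fun h => h hk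
    rw [act, if_neg this]
  · refine ⟨fun _ => hk, fun _ h => ?_⟩
    have h1 := natDegree_pos_of_ne (hg.1 k).1 hk
    rw [← act_natDegree I γ, h, natDegree_one] at h1
    exact lt_irrefl 0 h1

theorem tdet_act {I : Finset ℕ} (γ : ℕ → Fˣ) {g : ℕ → F[X]} (hI : supp n g = I) :
    tdet n (act I γ g) = ((∏ k ∈ I, (γ k) ^ k : Fˣ) : F) * tdet n g := by
  classical
  have hsub : I ⊆ Finset.range (n + 1) := by rw [← hI, supp]; exact Finset.filter_subset _ _
  have h1 : (((∏ k ∈ I, (γ k) ^ k : Fˣ)) : F) = ∏ k ∈ Finset.range (n + 1), (if k ∈ I then (γ k : F) ^ k else 1) := by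
    rw [Finset.prod_ite_mem, Finset.inter_eq_right.2 hsub, Units.coe_prod]
    exact Finset.prod_congr rfl fun k _ => by rw [Units.val_pow_eq_pow_val]
  rw [h1, tdet, tdet, ← Finset.prod_mul_distrib]
  refine Finset.prod_congr rfl fun k _ => ?_
  rw [act_natDegree]
  by_cases hk : k ∈ I
  · rw [act_coeff hk, if_pos hk, ← mul_pow]
    congr 1; ring
  · rw [act, if_neg hk, if_neg hk, one_mul]

theorem act_injective {I : Finset ℕ} (γ : ℕ → Fˣ) {g g' : ℕ → F[X]} (h : act I γ g = act I γ g') : g = g' := by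
  classical
  funext k
  have hk := congrFun h k
  by_cases hkI : k ∈ I
  · have h0 : (act I γ g k).coeff 0 = (act I γ g' k).coeff 0 := by rw [hk]
    rw [act_coeff hkI, act_coeff hkI] at h0
    have h1 := mul_left_cancel₀ (γ k).ne_zero h0
    rw [act, act, if_pos hkI, if_pos hkI, h1] at hk
    exact add_right_cancel hk
  · rw [act, act, if_neg hkI, if_neg hkI] at hk
    exact hk

/-- the homomorphism `γ ↦ ∏ γ_k ^ k` -/
def phi (F : Type u) [Field F] (I : Finset ℕ) : (ℕ → Fˣ) →* Fˣ where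
  toFun γ := ∏ k ∈ I, (γ k) ^ k
  map_one' := by simp
  map_mul' a b := by simp [mul_pow, Finset.prod_mul_distrib]

theorem card_det_one_mul_le [Finite F] (I : Finset ℕ) :
    Nat.card {g : X F n n // supp n g.1 = I ∧ tdet n g.1 = 1} * Nat.card Fˣ ≤
      Nat.card {x : Fˣ // ∀ k ∈ I, x ^ k = 1} * Nat.card {g : X F n n // supp n g.1 = I} := by
  classical
  let H := (phi F I).range
  have hH : ∀ k ∈ (I : Set ℕ), ∀ x : Fˣ, x ^ k ∈ H := by
    intro k hk x
    refine ⟨Pi.mulSingle k x, ?_⟩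
    change ∏ j ∈ I, (Pi.mulSingle k x : ℕ → Fˣ) j ^ j = x ^ k
    rw [Finset.prod_eq_single k]
    · rw [Pi.mulSingle_eq_same]
    · intro j _ hj; rw [Pi.mulSingle_eq_of_ne hj, one_pow]
    · intro h; exact absurd hk h
  have h1 : Nat.card {g : X F n n // supp n g.1 = I ∧ tdet n g.1 = 1} * Nat.card H ≤
      Nat.card {g : X F n n // supp n g.1 = I} := by
    rw [← Nat.card_prod]
    have hγ : ∀ h : H, ∃ γ : ℕ → Fˣ, phi F I γ = h.1 := fun h => h.2
    choose γ hγ using hγ
    refine Nat.card_le_card_of_injective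
      (fun z => ⟨⟨act I (γ z.2) z.1.1.1, (act_mem (γ z.2) z.1.1.2 z.1.2.1).1⟩,
        (act_mem (γ z.2) z.1.1.2 z.1.2.1).2⟩) ?_
    rintro ⟨g, h⟩ ⟨g', h'⟩ hgg
    have e1 : act I (γ h) g.1.1 = act I (γ h') g'.1.1 := congrArg (fun z => z.1.1) hgg
    have e2 : ∀ (g : {g : X F n n // supp n g.1 = I ∧ tdet n g.1 = 1}) (h : H),
        tdet n (act I (γ h) g.1.1) = (h.1 : F) := by
      intro g h
      rw [tdet_act (γ h) g.2.1, g.2.2, mul_one]
      exact congrArg Units.val (hγ h)
    have e3 : h = h' := by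
      apply Subtype.ext
      apply Units.ext
      rw [← e2 g h, ← e2 g' h', e1]
    subst e3
    have e4 := act_injective (γ h) e1
    refine Prod.ext (Subtype.ext (Subtype.ext e4)) rfl
  have h2 : Nat.card (Fˣ ⧸ H) ≤ Nat.card {x : Fˣ // ∀ k ∈ I, x ^ k = 1} := card_quotient_le (I : Set ℕ) H hH
  calc Nat.card {g : X F n n // supp n g.1 = I ∧ tdet n g.1 = 1} * Nat.card Fˣ
      = (Nat.card {g : X F n n // supp n g.1 = I ∧ tdet n g.1 = 1} * Nat.card H) * Nat.card (Fˣ ⧸ H) := by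
        rw [Subgroup.card_eq_card_quotient_mul_card_subgroup H]; ring
    _ ≤ Nat.card {g : X F n n // supp n g.1 = I} * Nat.card {x : Fˣ // ∀ k ∈ I, x ^ k = 1} :=
        Nat.mul_le_mul h1 h2
    _ = _ := mul_comm _ _

/-! ### Summation -/

theorem sum_fibre {Y : Type*} [Fintype Y] (T0 : Finset (Finset ℕ)) (s : Y → Finset ℕ) (hs : ∀ y, s y ∈ T0)
    (f : Finset ℕ → ℕ) : ∑ y, f (s y) = ∑ I ∈ T0, Nat.card {y // s y = I} * f I := by
  classical
  rw [← Finset.sum_fiberwise_of_maps_to (s := Finset.univ) (t := T0) (g := s) (fun y _ => hs y)]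
  refine Finset.sum_congr rfl fun I _ => ?_
  rw [Finset.sum_congr rfl (g := fun _ => f I) (fun y hy => by rw [(Finset.mem_filter.1 hy).2]),
    Finset.sum_const, smul_eq_mul, Nat.card_eq_fintype_card, Fintype.card_subtype]

theorem supp_mem_powerset (g : ℕ → F[X]) : supp n g ∈ (Finset.range (n + 1)).powerset := by
  classical
  rw [Finset.mem_powerset, supp]; exact Finset.filter_subset _ _

theorem tt_eq {g : ℕ → F[X]} (hg : g ∈ X F n n) :
    tt g = Nat.card {x : Fˣ // ∀ k ∈ supp n g, x ^ k = 1} := by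
  rw [tt]
  refine Nat.card_congr (Equiv.subtypeEquivRight fun x => ?_)
  refine forall_congr' fun k => ?_
  rw [mem_supp hg]

/-- the tuples killed by `a` and `b` -/
noncomputable def cc (F : Type u) [Field F] (n : ℕ) (p : Fˣ × Fˣ) : ℕ :=
  Nat.card {g : X F n n // ∀ k, g.1 k ≠ 1 → p.1 ^ k = 1 ∧ p.2 ^ k = 1}

theorem sum_tt_sq [Finite F] [Fintype (X F n n)] [Fintype (Fˣ × Fˣ)] :
    ∑ g : X F n n, tt g.1 ^ 2 = ∑ p : Fˣ × Fˣ, cc F n p := by
  classical
  have h1 : ∀ g : X F n n, tt g.1 ^ 2 = ∑ p : Fˣ × Fˣ, if (∀ k, g.1 k ≠ 1 → p.1 ^ k = 1 ∧ p.2 ^ k = 1) then 1 else 0 := by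
    intro g
    rw [← Finset.card_filter, ← Fintype.card_subtype, ← Nat.card_eq_fintype_card, tt, pow_two, ← Nat.card_prod]
    refine Nat.card_congr
      { toFun := fun z => ⟨(z.1.1, z.2.1), fun k hk => ⟨z.1.2 k hk, z.2.2 k hk⟩⟩
        invFun := fun z => (⟨z.1.1, fun k hk => (z.2 k hk).1⟩, ⟨z.1.2, fun k hk => (z.2 k hk).2⟩)
        left_inv := fun z => rfl
        right_inv := fun z => rfl }
  have h2 : ∀ p : Fˣ × Fˣ, cc F n p = ∑ g : X F n n, if (∀ k, g.1 k ≠ 1 → p.1 ^ k = 1 ∧ p.2 ^ k = 1) then 1 else 0 := by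
    intro p
    rw [← Finset.card_filter, ← Fintype.card_subtype, ← Nat.card_eq_fintype_card, cc]
  simp_rw [h1, h2]
  exact Finset.sum_comm

theorem card_sl_classes_mul_le [Finite F] [Fintype (Fˣ × Fˣ)] :
    Nat.card (ConjClasses (Matrix.SpecialLinearGroup (Fin n) F)) * Nat.card Fˣ ≤ ∑ p : Fˣ × Fˣ, cc F n p := by
  classical
  have := Fintype.ofFinite (X F n n)
  have := Fintype.ofFinite {g : X F n n // tdet n g.1 = 1}
  set T : Finset ℕ → ℕ := fun I => Nat.card {x : Fˣ // ∀ k ∈ I, x ^ k = 1} with hT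
  have h1 : Nat.card (ConjClasses (Matrix.SpecialLinearGroup (Fin n) F)) ≤
      ∑ g : {g : X F n n // tdet n g.1 = 1}, T (supp n g.1.1) := by
    refine card_le_sum_fibres slDat _ fun g => ?_
    rw [hT]
    simp only
    rw [← tt_eq g.1.2]
    exact card_fibre_le g
  have h2 := sum_fibre (Y := {g : X F n n // tdet n g.1 = 1}) (Finset.range (n + 1)).powerset
    (fun g => supp n g.1.1) (fun g => supp_mem_powerset _) T
  have h3 := sum_fibre (Y := X F n n) (Finset.range (n + 1)).powerset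
    (fun g => supp n g.1) (fun g => supp_mem_powerset _) (fun I => T I ^ 2)
  rw [← sum_tt_sq (F := F) (n := n)]
  have h4 : ∑ g : X F n n, tt g.1 ^ 2 = ∑ g : X F n n, T (supp n g.1) ^ 2 :=
    Finset.sum_congr rfl fun g _ => by rw [tt_eq g.2]
  rw [h4, h3]
  refine (Nat.mul_le_mul_right _ h1).trans ?_
  rw [h2, Finset.sum_mul]
  refine Finset.sum_le_sum fun I _ => ?_
  have h5 := card_det_one_mul_le (F := F) (n := n) I
  have h6 : Nat.card {g : {g : X F n n // tdet n g.1 = 1} // supp n g.1.1 = I} =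
      Nat.card {g : X F n n // supp n g.1 = I ∧ tdet n g.1 = 1} :=
    Nat.card_congr
      { toFun := fun z => ⟨z.1.1, z.2, z.1.2⟩
        invFun := fun z => ⟨⟨z.1, z.2.2⟩, z.2.1⟩
        left_inv := fun z => rfl
        right_inv := fun z => rfl }
  calc Nat.card {g : {g : X F n n // tdet n g.1 = 1} // supp n g.1.1 = I} * T I * Nat.card Fˣ
      = (Nat.card {g : X F n n // supp n g.1 = I ∧ tdet n g.1 = 1} * Nat.card Fˣ) * T I := by rw [h6]; ring
    _ ≤ (T I * Nat.card {g : X F n n // supp n g.1 = I}) * T I := Nat.mul_le_mul_right _ h5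
    _ = _ := by ring

/-! ### The terms of the sum -/

theorem card_dvd_le [Fintype F] {d : ℕ} (hd : 0 < d) :
    Nat.card {g : X F n n // ∀ k, g.1 k ≠ 1 → d ∣ k} ≤ if d ∣ n then K (Fintype.card F) (n / d) (n / d) else 0 := by
  classical
  have hsum : ∀ g : X F n n, (∀ k, g.1 k ≠ 1 → d ∣ k) → d ∣ n := by
    intro g hg
    have h1 := g.2.2.2
    have h2 : d ∣ ∑ k ∈ Finset.range (n + 1), k * (g.1 k).natDegree := by
      refine Finset.dvd_sum fun k _ => ?_
      by_cases hk : g.1 k = 1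
      · rw [hk, natDegree_one, mul_zero]; exact dvd_zero _
      · exact (hg k hk).mul_right _
    rwa [h1] at h2
  split_ifs with hdn
  · obtain ⟨m, rfl⟩ := hdn
    rw [Nat.mul_div_cancel_left m hd]
    refine le_trans ?_ (card_X_le (F := F) m m)
    refine Nat.card_le_card_of_injective (fun g => ⟨fun j => g.1.1 (d * j), ?_, ?_, ?_⟩) ?_
    · exact fun j => g.1.2.1 (d * j)
    · rintro j (rfl | hj)
      · exact g.1.2.2.1 _ (Or.inl (by simp))
      · exact g.1.2.2.1 _ (Or.inr (Nat.mul_lt_mul_of_pos_left hj hd))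
    · have h1 := g.1.2.2.2
      apply Nat.eq_of_mul_eq_mul_left hd
      refine Eq.trans ?_ h1
      rw [Finset.mul_sum]
      have h3 : ∑ k ∈ (Finset.range (d * m + 1)).filter (fun k => d ∣ k), k * (g.1.1 k).natDegree =
          ∑ k ∈ Finset.range (d * m + 1), k * (g.1.1 k).natDegree := by
        refine Finset.sum_filter_of_ne fun k _ hk => ?_
        apply g.2
        intro h; rw [h, natDegree_one, mul_zero] at hk; exact hk rfl
      rw [← h3]
      refine Finset.sum_bij (fun j _ => d * j) ?_ ?_ ?_ ?_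
      · intro j hj
        rw [Finset.mem_filter, Finset.mem_range]
        rw [Finset.mem_range] at hj
        exact ⟨Nat.lt_succ_of_le (Nat.mul_le_mul_left d (Nat.le_of_lt_succ hj)), dvd_mul_right _ _⟩
      · intro a _ b _ hab
        exact Nat.eq_of_mul_eq_mul_left hd hab
      · intro k hk
        rw [Finset.mem_filter, Finset.mem_range] at hk
        obtain ⟨hk1, j, rfl⟩ := hk
        refine ⟨j, ?_, rfl⟩
        rw [Finset.mem_range]
        exact Nat.lt_succ_of_le (Nat.le_of_mul_le_mul_left (Nat.le_of_lt_succ hk1) hd)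
      · intro j _
        ring
    · intro g g' hgg
      have h1 : ∀ j, g.1.1 (d * j) = g'.1.1 (d * j) := fun j => congrFun (Subtype.mk.inj hgg) j
      apply Subtype.ext
      apply Subtype.ext
      funext k
      by_cases hk : d ∣ k
      · obtain ⟨j, rfl⟩ := hk; exact h1 j
      · have e1 : g.1.1 k = 1 := by by_contra h; exact hk (g.2 k h)
        have e2 : g'.1.1 k = 1 := by by_contra h; exact hk (g'.2 k h)
        rw [e1, e2]
  · rw [Nat.le_zero, Nat.card_eq_zero]
    left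
    exact ⟨fun g => hdn (hsum g.1 g.2)⟩

theorem cc_le [Fintype F] (p : Fˣ × Fˣ) :
    cc F n p ≤ if Nat.lcm (orderOf p.1) (orderOf p.2) ∣ n then
      K (Fintype.card F) (n / Nat.lcm (orderOf p.1) (orderOf p.2)) (n / Nat.lcm (orderOf p.1) (orderOf p.2)) else 0 := by
  classical
  have hd : 0 < Nat.lcm (orderOf p.1) (orderOf p.2) :=
    Nat.lcm_pos (orderOf_pos p.1) (orderOf_pos p.2)
  refine le_trans (le_of_eq ?_) (card_dvd_le (F := F) (n := n) hd)
  rw [cc]
  refine Nat.card_congr (Equiv.subtypeEquivRight fun g => ?_)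
  refine forall_congr' fun k => ?_
  rw [Nat.lcm_dvd_iff, orderOf_dvd_iff_pow_eq_one, orderOf_dvd_iff_pow_eq_one]

end Cfsg.Agent.H151.SLC
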