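import Mathlib

/-! # Counting the data of the classes of `Sp_2n(q)`, `q` odd (helper151)

The data are the pairs `(f, T)` of a tuple `(f_k)` of monic palindromic polynomials of even degree and a tuple `(T_k)` of subsets
of `Fin 4` with `∑ k (deg f_k / 2 + |T_k|) = n`.  `card_data_le`: their number is at most `(54/5) q^n` for `q ≥ 3`.
-/

set_option autoImplicit false

namespace Cfsg.Agent.H151.SpCount

open Polynomial Finset

/-! ### Palindromic polynomials -/

variable (F : Type*) [Field F]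

/-- monic palindromic polynomials of degree `2 * m` -/
def Pal (m : ℕ) : Set F[X] :=
  {f | f.Monic ∧ f.natDegree = 2 * m ∧ ∀ i, i ≤ 2 * m → f.coeff i = f.coeff (2 * m - i)}

variable {F}

/-- the coefficients `1, ..., m` -/
def pcoord (m : ℕ) (f : Pal F m) : Fin m → F := fun i => f.1.coeff (i + 1)

theorem pcoord_injective (m : ℕ) : Function.Injective (pcoord (F := F) m) := by
  rintro ⟨f, hf1, hf2, hf3⟩ ⟨g, hg1, hg2, hg3⟩ h
  apply Subtype.ext
  have hlow : ∀ i, i ≤ m → f.coeff i = g.coeff i := by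
    intro i hi
    rcases Nat.eq_zero_or_pos i with rfl | hi0
    · rw [hf3 0 (Nat.zero_le _), hg3 0 (Nat.zero_le _), Nat.sub_zero]
      have e1 : f.coeff (2 * m) = 1 := by rw [← hf2]; exact hf1
      have e2 : g.coeff (2 * m) = 1 := by rw [← hg2]; exact hg1
      rw [e1, e2]
    · have := congrFun h ⟨i - 1, by omega⟩
      simp only [pcoord] at this
      rwa [Nat.sub_add_cancel hi0] at this
  ext i
  change f.coeff i = g.coeff i
  by_cases hi : i ≤ m
  · exact hlow i hi
  · by_cases hi2 : i ≤ 2 * m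
    · rw [hf3 i hi2, hg3 i hi2]
      exact hlow _ (by omega)
    · rw [coeff_eq_zero_of_natDegree_lt (by omega), coeff_eq_zero_of_natDegree_lt (by omega)]

instance finite_Pal [Finite F] (m : ℕ) : Finite (Pal F m) := Finite.of_injective _ (pcoord_injective m)

theorem card_Pal_le [Fintype F] (m : ℕ) : Nat.card (Pal F m) ≤ Fintype.card F ^ m := by
  classical
  have := Nat.card_le_card_of_injective _ (pcoord_injective (F := F) m)
  rwa [Nat.card_fun, Nat.card_fin, Nat.card_eq_fintype_card (α := F)] at this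

/-! ### Tuples of palindromic polynomials -/

/-- number of tuples -/
def t (q : ℕ) : ℕ → ℕ → ℕ
  | 0, N => if N = 0 then 1 else 0
  | r + 1, N => ∑ a ∈ range (N / (r + 1) + 1), q ^ a * t q r (N - a * (r + 1))

variable (F)

/-- tuples `(g_1, ..., g_r)` of palindromic polynomials with `∑ k (deg g_k) / 2 = N` -/
def Y (r N : ℕ) : Set (ℕ → F[X]) :=
  {g | (∀ k, ∃ m, g k ∈ Pal F m) ∧ (∀ k, k = 0 ∨ r < k → g k = 1) ∧
    ∑ k ∈ range (r + 1), k * ((g k).natDegree / 2) = N}

variable {F}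

theorem mem_Pal_half {f : F[X]} (h : ∃ m, f ∈ Pal F m) : f ∈ Pal F (f.natDegree / 2) := by
  obtain ⟨m, hm⟩ := h
  have : f.natDegree / 2 = m := by rw [hm.2.1]; omega
  rwa [this]

theorem one_mem_Pal : (1 : F[X]) ∈ Pal F 0 := by
  refine ⟨monic_one, natDegree_one, fun i hi => ?_⟩
  have : i = 0 := by omega
  subst this
  rfl

/-- splitting off the last polynomial -/
noncomputable def split (r N : ℕ) (g : Y F (r + 1) N) :
    Σ a : Fin (N / (r + 1) + 1), Pal F a × Y F r (N - a * (r + 1)) :=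
  have h1 : (g.1 (r + 1)).natDegree / 2 * (r + 1) ≤ N := by
    have h := g.2.2.2
    rw [sum_range_succ, mul_comm (r + 1)] at h
    omega
  ⟨⟨(g.1 (r + 1)).natDegree / 2, Nat.lt_succ_of_le ((Nat.le_div_iff_mul_le (Nat.succ_pos r)).2 h1)⟩,
    ⟨g.1 (r + 1), mem_Pal_half (g.2.1 (r + 1))⟩,
    ⟨Function.update g.1 (r + 1) 1, by
      refine ⟨fun k => ?_, fun k hk => ?_, ?_⟩
      · rcases eq_or_ne k (r + 1) with rfl | hk
        · rw [Function.update_self]; exact ⟨0, one_mem_Pal⟩
        · rw [Function.update_of_ne hk]; exact g.2.1 k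
      · rcases eq_or_ne k (r + 1) with rfl | hk'
        · rw [Function.update_self]
        · rw [Function.update_of_ne hk']; exact g.2.2.1 k (by omega)
      · have h := g.2.2.2
        rw [sum_range_succ] at h
        have h2 : ∑ k ∈ range (r + 1), k * ((Function.update g.1 (r + 1) 1 k).natDegree / 2) =
            ∑ k ∈ range (r + 1), k * ((g.1 k).natDegree / 2) := by
          refine sum_congr rfl fun k hk => ?_
          rw [Function.update_of_ne]
          have := mem_range.1 hk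
          omega
        rw [h2]
        simp only
        rw [mul_comm ((g.1 (r + 1)).natDegree / 2)]
        omega⟩⟩

theorem split_injective (r N : ℕ) : Function.Injective (split (F := F) r N) := by
  have key : ∀ g : Y F (r + 1) N, g.1 = Function.update (split r N g).2.2.1 (r + 1) (split r N g).2.1.1 := by
    intro g
    funext k
    rcases eq_or_ne k (r + 1) with rfl | hk
    · rw [Function.update_self]; rfl
    · rw [Function.update_of_ne hk]
      change g.1 k = Function.update g.1 (r + 1) 1 k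
      rw [Function.update_of_ne hk]
  intro g h hgh
  apply Subtype.ext
  rw [key g, key h, hgh]

theorem Y_zero_subset (N : ℕ) : Y F 0 N ⊆ {fun _ => 1} := by
  rintro g ⟨-, h, -⟩
  rw [Set.mem_singleton_iff]
  funext k
  exact h k (by omega)

theorem Y_zero_empty {N : ℕ} (hN : N ≠ 0) : Y F 0 N = ∅ := by
  rw [Set.eq_empty_iff_forall_notMem]
  rintro g ⟨-, -, h⟩
  simp at h
  exact hN h.symm

instance finite_Y [Finite F] (r : ℕ) : ∀ N : ℕ, Finite (Y F r N) := by
  induction r with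
  | zero => intro N; exact ((Set.finite_singleton _).subset (Y_zero_subset N)).to_subtype
  | succ r ih =>
    intro N
    have := ih
    exact Finite.of_injective _ (split_injective r N)

theorem card_Y_le [Fintype F] (r : ℕ) : ∀ N : ℕ, Nat.card (Y F r N) ≤ t (Fintype.card F) r N := by
  classical
  induction r with
  | zero =>
    intro N
    rw [t]
    split_ifs with h
    · have : Nat.card (Y F 0 N) ≤ Nat.card ({fun _ => 1} : Set (ℕ → F[X])) :=
        Nat.card_le_card_of_injective (Set.inclusion (Y_zero_subset N)) (Set.inclusion_injective _)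
      simpa using this
    · rw [Y_zero_empty h]; simp
  | succ r ih =>
    intro N
    refine (Nat.card_le_card_of_injective _ (split_injective r N)).trans ?_
    rw [Nat.card_sigma, t, ← Fin.sum_univ_eq_sum_range (fun a => Fintype.card F ^ a * t (Fintype.card F) r (N - a * (r + 1)))]
    refine sum_le_sum fun a _ => ?_
    rw [Nat.card_prod]
    exact Nat.mul_le_mul (card_Pal_le _) (ih _)

/-! ### Analytic bounds -/

theorem geom_le {y : ℝ} (h0 : 0 ≤ y) (h1 : y < 1) (n : ℕ) : ∑ i ∈ range n, y ^ i ≤ 1 / (1 - y) := by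
  rw [le_div_iff₀ (by linarith)]
  have := geom_sum_mul_neg y n
  rw [this]
  have : 0 ≤ y ^ n := pow_nonneg h0 n
  linarith

/-- the product `∏_{1 ≤ j < r} 1 / (1 - q^(-j))` -/
noncomputable def cst (x : ℝ) (r : ℕ) : ℝ := ∏ j ∈ range r, 1 / (1 - x ^ (j + 1))

theorem cst_pos {x : ℝ} (h0 : 0 ≤ x) (h1 : x < 1) (r : ℕ) : 0 < cst x r := by
  refine prod_pos fun j _ => ?_
  have : x ^ (j + 1) < 1 := pow_lt_one₀ h0 h1 (by omega)
  exact div_pos one_pos (by linarith)

theorem one_le_factor {x : ℝ} (h0 : 0 ≤ x) (h1 : x < 1) (j : ℕ) : 1 ≤ 1 / (1 - x ^ (j + 1)) := by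
  have h2 : x ^ (j + 1) < 1 := pow_lt_one₀ h0 h1 (by omega)
  have h3 : 0 ≤ x ^ (j + 1) := pow_nonneg h0 _
  rw [le_div_iff₀ (by linarith)]
  linarith

theorem t_le {q : ℕ} (hq : 2 ≤ q) (r : ℕ) : ∀ N : ℕ, (t q (r + 1) N : ℝ) ≤ cst (1 / q) r * (q : ℝ) ^ N := by
  have hq0 : (0 : ℝ) < q := by positivity
  have hq2 : (2 : ℝ) ≤ q := by exact_mod_cast hq
  have hx0 : (0 : ℝ) ≤ 1 / q := by positivity
  have hx1 : (1 / q : ℝ) < 1 := by rw [div_lt_one hq0]; linarith
  induction r with
  | zero =>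
    intro N
    rw [cst, range_zero, prod_empty, one_mul]
    have h1 : t q (0 + 1) N = q ^ N := by
      rw [t]
      simp only [zero_add, Nat.div_one, mul_one]
      rw [sum_eq_single N]
      · simp [t]
      · intro b hb hbN
        rw [mem_range] at hb
        rw [t, if_neg (by omega), mul_zero]
      · intro h; exact absurd (mem_range.2 (by omega)) h
    rw [h1]
    push_cast
    exact le_rfl
  | succ r ih =>
    intro N
    rw [t]
    push_cast
    have h1 : ∀ a ∈ range (N / (r + 1 + 1) + 1),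
        (q : ℝ) ^ a * (t q (r + 1) (N - a * (r + 1 + 1)) : ℝ) ≤
          cst (1 / q) r * (q : ℝ) ^ N * ((1 / q : ℝ) ^ (r + 1)) ^ a := by
      intro a ha
      rw [mem_range] at ha
      have h2 : a * (r + 1 + 1) ≤ N := by
        have := Nat.le_of_lt_succ ha
        exact (Nat.le_div_iff_mul_le (by omega)).1 this
      calc (q : ℝ) ^ a * (t q (r + 1) (N - a * (r + 1 + 1)) : ℝ)
          ≤ (q : ℝ) ^ a * (cst (1 / q) r * (q : ℝ) ^ (N - a * (r + 1 + 1))) := by
            exact mul_le_mul_of_nonneg_left (ih _) (by positivity)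
        _ = _ := by
            have h3 : (q : ℝ) ^ N = (q : ℝ) ^ (N - a * (r + 1 + 1)) * (q : ℝ) ^ (a * (r + 1 + 1)) := by
              rw [← pow_add, Nat.sub_add_cancel h2]
            have h4 : (q : ℝ) ^ (a * (r + 1 + 1)) * ((1 / q : ℝ) ^ (r + 1)) ^ a = (q : ℝ) ^ a := by
              rw [← pow_mul, one_div, inv_pow, mul_comm a, add_mul (r + 1) 1, pow_add, one_mul, mul_comm (_ ^ ((r + 1) * a)),
                mul_assoc, mul_inv_cancel₀ (by positivity), mul_one]
            rw [h3, ← h4]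
            ring
    refine (sum_le_sum h1).trans ?_
    rw [← mul_sum]
    have h5 : (1 / q : ℝ) ^ (r + 1) < 1 := pow_lt_one₀ hx0 hx1 (by omega)
    have h6 := geom_le (pow_nonneg hx0 (r + 1)) h5 (N / (r + 1 + 1) + 1)
    have h7 : cst (1 / q) (r + 1) = cst (1 / q) r * (1 / (1 - (1 / q : ℝ) ^ (r + 1))) := by
      rw [cst, prod_range_succ, ← cst]
    rw [h7]
    calc cst (1 / q) r * (q : ℝ) ^ N * ∑ i ∈ range (N / (r + 1 + 1) + 1), ((1 / q : ℝ) ^ (r + 1)) ^ i
        ≤ cst (1 / q) r * (q : ℝ) ^ N * (1 / (1 - (1 / q : ℝ) ^ (r + 1))) := by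
          refine mul_le_mul_of_nonneg_left h6 ?_
          exact mul_nonneg (cst_pos hx0 hx1 r).le (by positivity)
      _ = _ := by ring

theorem cst_mono {x : ℝ} (h0 : 0 ≤ x) (h1 : x < 1) (r : ℕ) : cst x r ≤ cst x (r + 1) := by
  have h7 : cst x (r + 1) = cst x r * (1 / (1 - x ^ (r + 1))) := by
    rw [cst, prod_range_succ, ← cst]
  rw [h7]
  exact le_mul_of_one_le_right (cst_pos h0 h1 r).le (one_le_factor h0 h1 r)

theorem t_le' {q : ℕ} (hq : 2 ≤ q) (r : ℕ) (N : ℕ) : (t q r N : ℝ) ≤ cst (1 / q) r * (q : ℝ) ^ N := by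
  have hq0 : (0 : ℝ) < q := by positivity
  have hq2 : (2 : ℝ) ≤ q := by exact_mod_cast hq
  have hx0 : (0 : ℝ) ≤ 1 / q := by positivity
  have hx1 : (1 / q : ℝ) < 1 := by rw [div_lt_one hq0]; linarith
  rcases r with _ | r
  · rw [cst, range_zero, prod_empty, one_mul, t]
    split_ifs with h
    · rw [h, pow_zero]; exact_mod_cast le_rfl
    · push_cast; positivity
  · exact (t_le hq r N).trans (mul_le_mul_of_nonneg_right (cst_mono hx0 hx1 r) (by positivity))

/-- the product `∏_{1 ≤ j ≤ n} (1 + x^j)^4 / (1 - x^j)` -/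
noncomputable def pp (x : ℝ) (n : ℕ) : ℝ := ∏ j ∈ range n, ((1 + x ^ (j + 1)) ^ 4 * (1 / (1 - x ^ (j + 1))))

theorem pp_pos {x : ℝ} (h0 : 0 ≤ x) (h1 : x < 1) (r : ℕ) : 0 < pp x r := by
  refine prod_pos fun j _ => ?_
  have h2 : x ^ (j + 1) < 1 := pow_lt_one₀ h0 h1 (by omega)
  have h3 : 0 ≤ x ^ (j + 1) := pow_nonneg h0 _
  exact mul_pos (by positivity) (div_pos one_pos (by linarith))

theorem pp_mono {x : ℝ} (h0 : 0 ≤ x) (h1 : x < 1) (r : ℕ) : pp x r ≤ pp x (r + 1) := by
  have h7 : pp x (r + 1) = pp x r * ((1 + x ^ (r + 1)) ^ 4 * (1 / (1 - x ^ (r + 1)))) := by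
    rw [pp, prod_range_succ, ← pp]
  rw [h7]
  refine le_mul_of_one_le_right (pp_pos h0 h1 r).le ?_
  have h3 : 0 ≤ x ^ (r + 1) := pow_nonneg h0 _
  exact one_le_mul_of_one_le_of_one_le (one_le_pow₀ (by linarith)) (one_le_factor h0 h1 r)

theorem pp_le_of_le {x y : ℝ} (h0 : 0 ≤ x) (hxy : x ≤ y) (hy : y < 1) (n : ℕ) : pp x n ≤ pp y n := by
  refine prod_le_prod (fun j _ => ?_) fun j _ => ?_
  · have h2 : x ^ (j + 1) < 1 := pow_lt_one₀ h0 (hxy.trans_lt hy) (by omega)
    have h3 : 0 ≤ x ^ (j + 1) := pow_nonneg h0 _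
    exact mul_nonneg (by positivity) (div_pos one_pos (by linarith)).le
  · have h2 : y ^ (j + 1) < 1 := pow_lt_one₀ (h0.trans hxy) hy (by omega)
    have h3 : 0 ≤ x ^ (j + 1) := pow_nonneg h0 _
    have h4 : x ^ (j + 1) ≤ y ^ (j + 1) := pow_le_pow_left₀ h0 hxy _
    refine mul_le_mul (pow_le_pow_left₀ (by linarith) (by linarith) 4) ?_ (div_pos one_pos (by linarith)).le
      (by positivity)
    exact one_div_le_one_div_of_le (by linarith) (by linarith)

theorem pp_third_five : pp (1 / 3) 5 ≤ 54 / 5 * (1 - 3 * (1 / 3) ^ 5) := by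
  rw [pp]
  simp only [prod_range_succ, range_zero, prod_empty]
  norm_num

theorem pp_third_ge (n : ℕ) : pp (1 / 3) (n + 5) ≤ 54 / 5 * (1 - 3 * (1 / 3) ^ (n + 5)) := by
  induction n with
  | zero => exact pp_third_five
  | succ n ih =>
    have h7 : pp (1 / 3) (n + 1 + 5) = pp (1 / 3) (n + 5) * ((1 + (1 / 3) ^ (n + 5 + 1)) ^ 4 *
        (1 / (1 - (1 / 3) ^ (n + 5 + 1)))) := by
      rw [show n + 1 + 5 = n + 5 + 1 by ring, pp, prod_range_succ, ← pp]
    rw [h7]
    set y : ℝ := (1 / 3) ^ (n + 5 + 1) with hy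
    have h8 : ((1 : ℝ) / 3) ^ (n + 5) = 3 * y := by rw [hy, pow_succ]; ring
    rw [h8] at ih
    have hy0 : 0 ≤ y := by rw [hy]; positivity
    have hy1 : y ≤ 1 / 729 := by
      rw [hy]
      have : ((1 : ℝ) / 3) ^ (n + 5 + 1) ≤ (1 / 3) ^ 6 :=
        pow_le_pow_of_le_one (by norm_num) (by norm_num) (by omega)
      refine this.trans (by norm_num)
    have h10 : (1 - 3 * (3 * y)) * (1 + y) ^ 4 ≤ (1 - 3 * y) * (1 - y) := by
      nlinarith [pow_nonneg hy0 2, pow_nonneg hy0 3, pow_nonneg hy0 4, pow_nonneg hy0 5]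
    have h11 : 0 < 1 - y := by linarith
    have h12 : 0 ≤ (1 + y) ^ 4 * (1 / (1 - y)) := by positivity
    calc pp (1 / 3) (n + 5) * ((1 + y) ^ 4 * (1 / (1 - y)))
        ≤ 54 / 5 * (1 - 3 * (3 * y)) * ((1 + y) ^ 4 * (1 / (1 - y))) := mul_le_mul_of_nonneg_right ih h12
      _ = 54 / 5 * ((1 - 3 * (3 * y)) * (1 + y) ^ 4) / (1 - y) := by ring
      _ ≤ 54 / 5 * ((1 - 3 * y) * (1 - y)) / (1 - y) := by
          apply div_le_div_of_nonneg_right _ h11.le
          linarith
      _ = _ := by field_simp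

theorem pp_third_le (n : ℕ) : pp (1 / 3) n ≤ 54 / 5 := by
  have h1 : pp (1 / 3) n ≤ pp (1 / 3) (n + 5) := by
    have h : ∀ k, pp (1 / 3) n ≤ pp (1 / 3) (n + k) := by
      intro k
      induction k with
      | zero => exact le_rfl
      | succ k ih => exact ih.trans (pp_mono (by norm_num) (by norm_num) (n + k))
    exact h 5
  refine (h1.trans (pp_third_ge n)).trans ?_
  have : (0 : ℝ) ≤ (1 / 3) ^ (n + 5) := by positivity
  linarith

/-! ### The data -/

variable (F)

/-- the weight of a tuple of subsets -/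
def wt (n : ℕ) (T : Fin n → Finset (Fin 4)) : ℕ := ∑ i, (i + 1) * (T i).card

/-- **the data of a class** -/
def Data (n : ℕ) : Set ((ℕ → F[X]) × (Fin n → Finset (Fin 4))) :=
  {z | (∀ k, ∃ m, z.1 k ∈ Pal F m) ∧ (∀ k, k = 0 ∨ n < k → z.1 k = 1) ∧
    ∑ k ∈ range (n + 1), k * ((z.1 k).natDegree / 2) + wt n z.2 = n}

variable {F}

theorem sum_wt (x : ℝ) (n : ℕ) : ∑ T : Fin n → Finset (Fin 4), x ^ wt n T = ∏ j ∈ range n, (1 + x ^ (j + 1)) ^ 4 := by
  classical
  have h1 : ∀ j : ℕ, (1 + x ^ (j + 1)) ^ 4 = ∑ S : Finset (Fin 4), x ^ ((j + 1) * S.card) := by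
    intro j
    rw [add_comm, ← Fin.sum_pow_mul_eq_add_pow]
    refine sum_congr rfl fun S _ => ?_
    rw [one_pow, mul_one, pow_mul]
  rw [← Fin.prod_univ_eq_prod_range (fun j => (1 + x ^ (j + 1)) ^ 4)]
  simp_rw [h1]
  rw [Finset.prod_univ_sum]
  rw [Fintype.piFinset_univ]
  refine sum_congr rfl fun T _ => ?_
  rw [wt, prod_pow_eq_pow_sum]

/-- the data as a sigma type -/
def toSigma (n : ℕ) (z : Data F n) : Σ T : {T : Fin n → Finset (Fin 4) // wt n T ≤ n}, Y F n (n - wt n T.1) :=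
  ⟨⟨z.1.2, by have := z.2.2.2; omega⟩, ⟨z.1.1, z.2.1, z.2.2.1, by have := z.2.2.2; simp only; omega⟩⟩

theorem toSigma_injective (n : ℕ) : Function.Injective (toSigma (F := F) n) := by
  intro z z' h
  have h1 : z.1.2 = z'.1.2 := congrArg (fun w => w.1.1) h
  have h2 : z.1.1 = z'.1.1 := congrArg (fun w : (Σ T : {T : Fin n → Finset (Fin 4) // wt n T ≤ n}, Y F n (n - wt n T.1)) =>
    w.2.1) h
  exact Subtype.ext (Prod.ext h2 h1)

instance finite_Data [Finite F] (n : ℕ) : Finite (Data F n) := Finite.of_injective _ (toSigma_injective n)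

/-- **The number of data.** -/
theorem card_data_le [Fintype F] (hF : 3 ≤ Fintype.card F) (n : ℕ) :
    5 * Nat.card (Data F n) ≤ 54 * Fintype.card F ^ n := by
  classical
  set q := Fintype.card F with hq
  have hq0 : (0 : ℝ) < q := by positivity
  have hq3 : (3 : ℝ) ≤ q := by exact_mod_cast hF
  have hx0 : (0 : ℝ) ≤ 1 / q := by positivity
  have hx1 : (1 / q : ℝ) < 1 := by rw [div_lt_one hq0]; linarith
  have hx3 : (1 / q : ℝ) ≤ 1 / 3 := one_div_le_one_div_of_le (by norm_num) hq3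
  have h1 : Nat.card (Data F n) ≤ ∑ T : {T : Fin n → Finset (Fin 4) // wt n T ≤ n}, t q n (n - wt n T.1) := by
    refine (Nat.card_le_card_of_injective _ (toSigma_injective n)).trans ?_
    rw [Nat.card_sigma]
    exact sum_le_sum fun T _ => card_Y_le n _
  have h2 : (Nat.card (Data F n) : ℝ) ≤ q ^ n * pp (1 / q) n := by
    calc (Nat.card (Data F n) : ℝ)
        ≤ ∑ T : {T : Fin n → Finset (Fin 4) // wt n T ≤ n}, (t q n (n - wt n T.1) : ℝ) := by exact_mod_cast h1
      _ ≤ ∑ T : {T : Fin n → Finset (Fin 4) // wt n T ≤ n}, cst (1 / q) n * q ^ n * (1 / q : ℝ) ^ (wt n T.1) := by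
          refine sum_le_sum fun T _ => ?_
          refine (t_le' (by omega) n _).trans (le_of_eq ?_)
          have h3 : (q : ℝ) ^ n = (q : ℝ) ^ (n - wt n T.1) * (q : ℝ) ^ (wt n T.1) := by
            rw [← pow_add, Nat.sub_add_cancel T.2]
          rw [h3, one_div, inv_pow, mul_assoc, mul_assoc, mul_inv_cancel₀ (by positivity), mul_one]
      _ = ∑ T ∈ univ.filter (fun T : Fin n → Finset (Fin 4) => wt n T ≤ n), cst (1 / q) n * q ^ n * (1 / q : ℝ) ^ (wt n T) := by
          rw [← sum_subtype_eq_sum_filter]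
          simp
      _ ≤ ∑ T : Fin n → Finset (Fin 4), cst (1 / q) n * q ^ n * (1 / q : ℝ) ^ (wt n T) := by
          refine sum_le_sum_of_subset_of_nonneg (filter_subset _ _) fun T _ _ => ?_
          exact mul_nonneg (mul_nonneg (cst_pos hx0 hx1 n).le (by positivity)) (by positivity)
      _ = q ^ n * pp (1 / q) n := by
          rw [← mul_sum, sum_wt, pp, prod_mul_distrib, cst]
          ring
  have h3 : (Nat.card (Data F n) : ℝ) ≤ q ^ n * (54 / 5) := by
    refine h2.trans (mul_le_mul_of_nonneg_left ?_ (by positivity))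
    exact (pp_le_of_le hx0 hx3 (by norm_num) n).trans (pp_third_le n)
  have h4 : (5 * Nat.card (Data F n) : ℝ) ≤ 54 * q ^ n := by linarith
  exact_mod_cast h4

end Cfsg.Agent.H151.SpCount
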